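import Cfsg.Agent.Geo.FrameSix.Embed

/-!
Proper overgroups of the monomial part in six coordinates: elements commuting with the negation of a
coordinate plane are monomial.
-/

set_option autoImplicit false
set_option linter.unusedSectionVars false

namespace CfsgLib.Geo.OFrame

open QuadraticMap CfsgLib.Forms CfsgLib.Quad Matrix

variable {F : Type*} [Field F] [Finite F] [DecidableEq F]

/-- An overgroup of the monomial part, monomial on the stabilisers of frame vectors. -/
structure Six (H : Subgroup (O F 6)) : Prop extends Over H where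
  fix : ∀ g ∈ H, ∀ a, g.1 (e a) = e a → Mono g

theorem six_of_ne {H : Subgroup (O F 6)} (p : ℕ) [Fact p.Prime] [CharP F p] (hcard : Nat.card F = p)
    (hH : Over H) (hne : H ≠ commutator (O F 6)) : Six H :=
  ⟨hH, fun _ hg _ hga => by_contra fun hgm => hne (hH.eq_top_of_fix p hcard hg hga hgm)⟩

variable {H : Subgroup (O F 6)}

/-- An element moving a frame vector to a frame vector is monomial. -/
theorem Six.mono_of_line (hS : Six H) {g : O F 6} (hg : g ∈ H) {a b : Fin 6} {s : F}
    (h : g.1 (e a) = s • e b) : Mono g := by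
  obtain ⟨σ, ⟨m, hm, hmm, hmv⟩, hab, -, -⟩ :=
    hS.toOver.permutes_to (x := a) (y := b) ∅ (by simp) (by simp) (by simp)
  have hmb : m.1 (e b) = e a := funext fun t => by
    rw [hmv, e_apply, e_apply]
    exact if_congr ⟨fun h' => σ.injective (h'.trans hab.symm), fun h' => h' ▸ hab⟩ rfl rfl
  have hs : s = 1 ∨ s = -1 := by
    have h1 := self_map g (e a)
    rw [h, smul_dotProduct, dotProduct_smul, ee, ee, smul_eq_mul, smul_eq_mul, mul_one] at h1
    exact mul_self_eq_one_iff.1 h1
  have hg1 : (m * g).1 (e a) = s • e a := by rw [mul_apply, h, map_smul, hmb]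
  have hkey : Mono (m * g) := by
    rcases hs with rfl | rfl
    · exact hS.fix _ (mul_mem hm hg) a (by rw [hg1, one_smul])
    · obtain ⟨c, hc⟩ : ∃ c : Fin 6, c ≠ a := exists_ne a
      set E := R (e (F := F) a) * R (e c) with hE
      have hEH : E ∈ H := hS.toOver.rel_e a c
      have hEm : Mono E := (mono_R_e a).mul (mono_R_e c)
      have hEa : E.1 (e a) = -e a := by
        rw [hE, mul_apply, R_fix (ee_ne hc.symm), R_neg (by rw [ee]; exact one_ne_zero)]
      have := hS.fix _ (mul_mem hEH (mul_mem hm hg)) a (by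
        rw [mul_apply, hg1, map_smul, hEa, neg_one_smul, neg_neg])
      simpa [← mul_assoc] using hEm.inv.mul this
  simpa [← mul_assoc] using hmm.inv.mul hkey

/-- A unit vector on one coordinate. -/
theorem eq_smul_e_of_card {n : ℕ} {v : Fin n → F} (hn : 0 < n) (h : (supp v).card ≤ 1) :
    ∃ b, v = v b • e b := by
  rcases Nat.eq_zero_or_pos (supp v).card with h0 | h0
  · refine ⟨⟨0, hn⟩, eq_smul_e fun i _ => not_mem_supp.1 ?_⟩
    rw [Finset.card_eq_zero.1 h0]; simp
  · obtain ⟨b, hb⟩ := Finset.card_eq_one.1 (show (supp v).card = 1 by omega)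
    exact ⟨b, eq_smul_e fun i hi => not_mem_supp.1 (by rw [hb]; simpa using hi)⟩

theorem Six.mono_of_card (hS : Six H) {g : O F 6} (hg : g ∈ H) {a : Fin 6}
    (h : (supp (g.1 (e a))).card ≤ 1) : Mono g := by
  obtain ⟨b, hb⟩ := eq_smul_e_of_card (by norm_num) h
  exact hS.mono_of_line hg hb

/-- The negation of a coordinate plane. -/
noncomputable def eps (a b : Fin 6) : O F 6 := R (e a) * R (e b)

theorem eps_coord {a b : Fin 6} (hab : a ≠ b) (v : Fin 6 → F) (t : Fin 6) :
    (eps a b : O F 6).1 v t = if t = a ∨ t = b then -v t else v t := by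
  rw [eps, mul_apply, R_e_coord', R_e_coord']
  by_cases h1 : t = a
  · subst h1; simp [hab]
  · simp [h1]

theorem eps_apply_e {a b : Fin 6} (hab : a ≠ b) (c : Fin 6) :
    (eps a b : O F 6).1 (e c) = if c = a ∨ c = b then -e c else e c := by
  funext t
  rw [eps_coord hab]
  rcases eq_or_ne t c with rfl | h
  · split_ifs <;> simp
  · split_ifs <;> simp [e_apply, h]

theorem Over.eps_mem (hH : Over H) (a b : Fin 6) : eps a b ∈ H := hH.rel_e a b

theorem eps_sq {a b : Fin 6} (hab : a ≠ b) : eps (F := F) a b * eps a b = 1 :=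
  O_ext fun c => by rw [mul_apply, eps_apply_e hab, one_apply]; split_ifs with h <;> simp [eps_apply_e hab, h]

/-- Coordinates of the images under an element commuting with the negation. -/
theorem comm_supp (h2 : (2 : F) ≠ 0) {a b : Fin 6} (hab : a ≠ b) {h : O F 6}
    (hc : h * eps a b = eps a b * h) (c t : Fin 6) (hne : ¬ ((c = a ∨ c = b) ↔ (t = a ∨ t = b))) :
    h.1 (e c) t = 0 := by
  have e1 : (h * eps a b).1 (e c) t = (eps a b * h).1 (e c) t := by rw [hc]
  rw [mul_apply, mul_apply, eps_coord hab, eps_apply_e hab] at e1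
  refine (mul_eq_zero.1 (show (2 : F) * h.1 (e c) t = 0 from ?_)).resolve_left h2
  by_cases hca : c = a ∨ c = b
  · have hta : ¬ (t = a ∨ t = b) := fun ht => hne ⟨fun _ => ht, fun _ => hca⟩
    rw [if_pos hca, if_neg hta, map_neg, Pi.neg_apply] at e1
    linear_combination -e1
  · have hta : t = a ∨ t = b := by
      by_contra ht
      exact hne ⟨fun h => absurd h hca, fun h => absurd h ht⟩
    rw [if_neg hca, if_pos hta] at e1
    linear_combination e1

set_option synthInstance.maxSize 20000 in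
theorem six_three_others : ∀ a b p : Fin 6, a ≠ b → p ≠ a → p ≠ b → ∃ q r s : Fin 6,
    q ≠ a ∧ q ≠ b ∧ r ≠ a ∧ r ≠ b ∧ s ≠ a ∧ s ≠ b ∧ p ≠ q ∧ p ≠ r ∧ p ≠ s ∧ q ≠ r ∧ q ≠ s ∧ r ≠ s ∧
    ∀ t, t = a ∨ t = b ∨ t = p ∨ t = q ∨ t = r ∨ t = s := by decide

theorem six_sum {M : Type*} [AddCommMonoid M] {a b p q r s : Fin 6} (hab : a ≠ b) (hpa : p ≠ a)
    (hpb : p ≠ b) (hqa : q ≠ a) (hqb : q ≠ b) (hra : r ≠ a) (hrb : r ≠ b) (hsa : s ≠ a) (hsb : s ≠ b)
    (hpq : p ≠ q) (hpr : p ≠ r) (hps : p ≠ s) (hqr : q ≠ r) (hqs : q ≠ s) (hrs : r ≠ s)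
    (hall : ∀ t, t = a ∨ t = b ∨ t = p ∨ t = q ∨ t = r ∨ t = s) (f : Fin 6 → M) :
    ∑ t, f t = f a + (f b + (f p + (f q + (f r + f s)))) := by
  rw [show (Finset.univ : Finset (Fin 6)) = {a, b, p, q, r, s} by
    ext t; simpa using hall t]
  rw [Finset.sum_insert (by simp [hab, hpa.symm, hqa.symm, hra.symm, hsa.symm]),
    Finset.sum_insert (by simp [hpb.symm, hqb.symm, hrb.symm, hsb.symm]),
    Finset.sum_insert (by simp [hpq, hpr, hps]), Finset.sum_insert (by simp [hqr, hqs]),
    Finset.sum_pair hrs]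

/-- A half vector off the plane or a frame vector. -/
theorem Six.quarters (hS : Six H) {a b : Fin 6} (hab : a ≠ b) {h : O F 6} (hh : h ∈ H)
    (hc : h * eps a b = eps a b * h) (hm : ¬ Mono h) {c p : Fin 6} (hca : c ≠ a) (hcb : c ≠ b)
    (hpa : p ≠ a) (hpb : p ≠ b) : 4 * (h.1 (e c) p * h.1 (e c) p) = 1 := by
  have h2 := hS.two
  obtain ⟨q, r, s, hqa, hqb, hra, hrb, hsa, hsb, hpq, hpr, hps, hqr, hqs, hrs, hall⟩ :=
    six_three_others a b p hab hpa hpb
  set v := h.1 (e c) with hv
  have hva : v a = 0 := comm_supp h2 hab hc c a (by simp [hca, hcb])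
  have hvb : v b = 0 := comm_supp h2 hab hc c b (by simp [hca, hcb])
  have hsum : v p * v p + v q * v q + v r * v r + v s * v s = 1 := by
    have h1 : v ⬝ᵥ v = 1 := by rw [hv, self_map, ee]
    rw [dotProduct, six_sum hab hpa hpb hqa hqb hra hrb hsa hsb hpq hpr hps hqr hqs hrs hall, hva, hvb] at h1
    linear_combination h1
  have hc' : h⁻¹ * eps a b = eps a b * h⁻¹ := Commute.inv_left hc
  have hmain : ∀ m ∈ H, m.1 (e a) = e a → m.1 (e b) = e b → Mono (h⁻¹ * m * h) := by
    intro m hmH hma hmb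
    refine hS.fix _ (mul_mem (mul_mem (inv_mem hh) hmH) hh) a ?_
    have hplane : ∀ x : Fin 6 → F, (∀ t, t ≠ a → t ≠ b → x t = 0) → m.1 x = x := by
      intro x hx
      have hxe : x = x a • e a + x b • e b := by
        funext t
        rcases eq_or_ne t a with rfl | hta
        · simp [e_apply, hab]
        rcases eq_or_ne t b with rfl | htb
        · simp [e_apply, hab.symm]
        simp [e_apply, hta, htb, hx t hta htb]
      rw [hxe, map_add, map_smul, map_smul, hma, hmb]
    rw [mul_apply, mul_apply, hplane (h.1 (e a)) fun t hta htb => comm_supp h2 hab hc a t (by simp [hta, htb]),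
      ← mul_apply, inv_mul_cancel, one_apply]
  have himg : ∀ m ∈ H, m.1 (e a) = e a → m.1 (e b) = e b →
      v ⬝ᵥ m.1 v = 0 ∨ m.1 v = v ∨ m.1 v = -v := by
    intro m hmH hma hmb
    obtain ⟨d, σ, hσ, hd⟩ := (hmain m hmH hma hmb).image c
    rw [mul_apply, mul_apply, ← hv] at hd
    have h1 : m.1 v = σ • h.1 (e d) := by
      rw [← map_smul, ← hd, ← mul_apply h h⁻¹, mul_inv_cancel, one_apply]
    rcases eq_or_ne d c with rfl | hdc
    · rw [← hv] at h1
      rcases mul_self_eq_one_iff.1 hσ with rfl | rfl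
      · exact Or.inr (Or.inl (by rw [h1, one_smul]))
      · exact Or.inr (Or.inr (by rw [h1, neg_one_smul]))
    · refine Or.inl ?_
      rw [h1, dotProduct_smul, hv, dot_map h h2, ee_ne hdc.symm, smul_zero]
  have hsplit : ∀ x y z w : Fin 6, x ≠ a → x ≠ b → y ≠ a → y ≠ b → z ≠ a → z ≠ b → w ≠ a → w ≠ b →
      x ≠ y → x ≠ z → x ≠ w → y ≠ z → y ≠ w → z ≠ w →
      v x * v x + v y * v y + v z * v z + v w * v w = 1 →
      2 * (v x * v x + v y * v y) = 1 ∨ (v x = 0 ∧ v y = 0) ∨ (v z = 0 ∧ v w = 0) := by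
    intro x y z w hxa hxb hya hyb hza hzb hwa hwb hxy hxz hxw hyz hyw hzw hs1
    rcases himg (eps x y) (hS.toOver.eps_mem x y)
      (by rw [eps_apply_e hxy, if_neg (by simp [hxa.symm, hya.symm])])
      (by rw [eps_apply_e hxy, if_neg (by simp [hxb.symm, hyb.symm])]) with h0 | h0 | h0
    · refine Or.inl ?_
      have h1 : v ⬝ᵥ (eps x y : O F 6).1 v = v ⬝ᵥ v - 2 * (v x * v x + v y * v y) := by
        rw [show (eps x y : O F 6).1 v = v - (2 : F) • (v x • e x + v y • e y) from funext fun t => by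
          rw [eps_coord hxy]
          rcases eq_or_ne t x with rfl | htx
          · simp [e_apply, hxy]; ring
          rcases eq_or_ne t y with rfl | hty
          · simp [e_apply, hxy.symm]; ring
          simp [e_apply, htx, hty]]
        simp [dotProduct_smul, dotProduct_add, dot_e]
        ring
      rw [h0, hv, self_map, ee, ← hv] at h1
      linear_combination h1
    · refine Or.inr (Or.inl ⟨?_, ?_⟩) <;>
        [have h1 := congrFun h0 x; have h1 := congrFun h0 y] <;>
        (rw [eps_coord hxy, if_pos (by simp)] at h1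
         refine (mul_eq_zero.1 (show (2 : F) * _ = 0 from ?_)).resolve_left h2
         linear_combination -h1)
    · refine Or.inr (Or.inr ⟨?_, ?_⟩) <;>
        [have h1 := congrFun h0 z; have h1 := congrFun h0 w] <;>
        (rw [eps_coord hxy, if_neg (by simp [hxz.symm, hyz.symm, hxw.symm, hyw.symm]), Pi.neg_apply] at h1
         refine (mul_eq_zero.1 (show (2 : F) * _ = 0 from ?_)).resolve_left h2
         linear_combination h1)
  have hpairfalse : ∀ x y z w : Fin 6, x ≠ a → x ≠ b → y ≠ a → y ≠ b → z ≠ a → z ≠ b → w ≠ a → w ≠ b →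
      x ≠ y → x ≠ z → x ≠ w → y ≠ z → y ≠ w → z ≠ w →
      (∀ t, t = a ∨ t = b ∨ t = x ∨ t = y ∨ t = z ∨ t = w) → ¬ (v z = 0 ∧ v w = 0) := by
    intro x y z w hxa hxb hya hyb hza hzb hwa hwb hxy hxz hxw hyz hyw hzw hall' ⟨hz0, hw0⟩
    have hone : ∀ i j, (∀ t, t = a ∨ t = b ∨ t = i ∨ t = j ∨ t = z ∨ t = w) → v j ≠ 0 := fun i j hij hj => by
      refine hm (hS.mono_of_card hh (a := c) ?_)
      rw [← hv]
      refine (Finset.card_le_card fun t ht => ?_).trans (Finset.card_singleton i).le
      rw [Finset.mem_singleton]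
      rw [mem_supp] at ht
      rcases hij t with rfl | rfl | rfl | rfl | rfl | rfl <;> first | rfl | exact absurd ‹_› ht
    have hx0 : v x ≠ 0 := hone y x fun t => by rcases hall' t with h | h | h | h | h | h <;> simp [h]
    have hy0 : v y ≠ 0 := hone x y hall'
    obtain ⟨m, hmH, -, hmv⟩ := (hS.toOver.permutes_swaps hxy hyz : Permutes H (Equiv.swap x y * Equiv.swap y z))
    have hsw : ∀ t, t ≠ x → t ≠ y → t ≠ z → (Equiv.swap x y * Equiv.swap y z) t = t := fun t h1 h2' h3 => by
      rw [Equiv.Perm.mul_apply, Equiv.swap_apply_of_ne_of_ne h2' h3, Equiv.swap_apply_of_ne_of_ne h1 h2']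
    have hsx : (Equiv.swap x y * Equiv.swap y z) x = y := by
      rw [Equiv.Perm.mul_apply, Equiv.swap_apply_of_ne_of_ne hxy hxz, Equiv.swap_apply_left]
    have hsy : (Equiv.swap x y * Equiv.swap y z) y = z := by
      rw [Equiv.Perm.mul_apply, Equiv.swap_apply_left,
        Equiv.swap_apply_of_ne_of_ne hxz.symm hyz.symm]
    have hfixe : ∀ t, t ≠ x → t ≠ y → t ≠ z → m.1 (e t) = e t := fun t h1 h2' h3 => funext fun i => by
      rw [hmv, e_apply, e_apply]
      exact if_congr ⟨fun h => (Equiv.swap x y * Equiv.swap y z).injective (h.trans (hsw t h1 h2' h3).symm),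
        fun h => h ▸ hsw t h1 h2' h3⟩ rfl rfl
    have hmy : m.1 v y = 0 := by rw [hmv, hsy, hz0]
    rcases himg m hmH (hfixe a hxa.symm hya.symm hza.symm) (hfixe b hxb.symm hyb.symm hzb.symm) with h0 | h0 | h0
    · rw [dotProduct, six_sum hab hxa hxb hya hyb hza hzb hwa hwb hxy hxz hxw hyz hyw hzw hall'] at h0
      simp only [hva, hvb, hz0, hw0, hmv, hsx, hsy] at h0
      exact mul_ne_zero hx0 hy0 (by linear_combination h0)
    · exact hy0 (by rw [← congrFun h0 y, hmy])
    · exact hy0 (by have := congrFun h0 y; rw [hmy, Pi.neg_apply] at this; exact neg_eq_zero.1 this.symm)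
  have A1 := hsplit p q r s hpa hpb hqa hqb hra hrb hsa hsb hpq hpr hps hqr hqs hrs hsum
  have A2 := hsplit p r q s hpa hpb hra hrb hqa hqb hsa hsb hpr hpq hps hqr.symm hrs hqs
    (by linear_combination hsum)
  have A3 := hsplit p s q r hpa hpb hsa hsb hqa hqb hra hrb hps hpq hpr hqs.symm hrs.symm hqr
    (by linear_combination hsum)
  have n1 := hpairfalse r s p q hra hrb hsa hsb hpa hpb hqa hqb hrs hpr.symm hqr.symm hps.symm hqs.symm hpq
    fun t => by rcases hall t with h | h | h | h | h | h <;> simp [h]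
  have n2 := hpairfalse p q r s hpa hpb hqa hqb hra hrb hsa hsb hpq hpr hps hqr hqs hrs hall
  have n3 := hpairfalse q s p r hqa hqb hsa hsb hpa hpb hra hrb hqs hpq.symm hqr hps.symm hrs.symm hpr
    fun t => by rcases hall t with h | h | h | h | h | h <;> simp [h]
  have n4 := hpairfalse p r q s hpa hpb hra hrb hqa hqb hsa hsb hpr hpq hps hqr.symm hrs hqs
    fun t => by rcases hall t with h | h | h | h | h | h <;> simp [h]
  have n5 := hpairfalse q r p s hqa hqb hra hrb hpa hpb hsa hsb hqr hpq.symm hqs hpr.symm hrs hps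
    fun t => by rcases hall t with h | h | h | h | h | h <;> simp [h]
  have n6 := hpairfalse p s q r hpa hpb hsa hsb hqa hqb hra hrb hps hpq hpr hqs.symm hrs.symm hqr
    fun t => by rcases hall t with h | h | h | h | h | h <;> simp [h]
  rcases A1 with A1 | A1 | A1
  · rcases A2 with A2 | A2 | A2
    · rcases A3 with A3 | A3 | A3
      · linear_combination A1 + A2 + A3 - 2 * hsum
      · exact absurd A3 n5
      · exact absurd A3 n6
    · exact absurd A2 n3
    · exact absurd A2 n4
  · exact absurd A1 n1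
  · exact absurd A1 n2

/-- Two images off the plane differ by a root. -/
theorem Six.diff_root (hS : Six H) {a b : Fin 6} (hab : a ≠ b) {h : O F 6} (hh : h ∈ H)
    (hc : h * eps a b = eps a b * h) (hm : ¬ Mono h) {c d : Fin 6} (hca : c ≠ a) (hcb : c ≠ b)
    (hda : d ≠ a) (hdb : d ≠ b) (hcd : c ≠ d) :
    ∃ p q : Fin 6, p ≠ q ∧ p ≠ a ∧ p ≠ b ∧ q ≠ a ∧ q ≠ b ∧ ∃ σ t : F, σ * σ = 1 ∧ t * t = 1 ∧
      h.1 (e c + (-1 : F) • e d) = t • (e p + σ • e q) := by
  have h2 := hS.two
  set w := h.1 (e c + (-1 : F) • e d) with hw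
  have hwt : ∀ t, w t = h.1 (e c) t - h.1 (e d) t := fun t => by
    rw [hw, map_add, map_smul]; simp [sub_eq_add_neg]
  have hout : ∀ t, t = a ∨ t = b → w t = 0 := fun t ht => by
    rw [hwt, comm_supp h2 hab hc c t (by simp [hca, hcb, ht]), comm_supp h2 hab hc d t (by simp [hda, hdb, ht]),
      sub_zero]
  have hsq : ∀ t ∈ supp w, w t * w t = 1 := fun t ht => by
    rw [mem_supp] at ht
    have hta : t ≠ a := fun h' => ht (hout t (Or.inl h'))
    have htb : t ≠ b := fun h' => ht (hout t (Or.inr h'))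
    have q1 := hS.quarters hab hh hc hm hca hcb hta htb
    have q2 := hS.quarters hab hh hc hm hda hdb hta htb
    rw [hwt] at ht ⊢
    rcases mul_self_eq_mul_self_iff.1 (mul_left_cancel₀ (show (4 : F) ≠ 0 by
      rw [show (4 : F) = 2 * 2 by norm_num]; exact mul_ne_zero h2 h2) (q1.trans q2.symm)) with h' | h'
    · exact absurd (sub_eq_zero.2 h') ht
    · linear_combination q1 + (h.1 (e d) t - 3 * h.1 (e c) t) * h'
  have hn : w ⬝ᵥ w = 2 := by rw [hw, self_map, (root_norm h2 hcd (by ring)).1]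
  have hsum : ((supp w).card : F) = 2 := by
    rw [← hn, dotProduct, ← Finset.sum_subset (Finset.subset_univ (supp w)) fun i _ hi => by
      rw [not_mem_supp.1 hi, zero_mul], Finset.sum_congr rfl hsq]
    simp
  have hle : (supp w).card ≤ 4 := by
    refine (Finset.card_le_card (t := (Finset.univ.erase a).erase b) fun t ht => ?_).trans ?_
    · rw [mem_supp] at ht
      simp only [Finset.mem_erase, Finset.mem_univ, and_true]
      exact ⟨fun h' => ht (hout t (Or.inr h')), fun h' => ht (hout t (Or.inl h'))⟩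
    · rw [Finset.card_erase_of_mem (by simp [hab.symm]), Finset.card_erase_of_mem (by simp)]; simp
  have h4 : (4 : F) ≠ 0 := by rw [show (4 : F) = 2 * 2 by norm_num]; exact mul_ne_zero h2 h2
  obtain ⟨k, hk⟩ : ∃ k, (supp w).card = k := ⟨_, rfl⟩
  have hk2 : k = 2 := by
    rw [hk] at hsum hle
    interval_cases k <;> push_cast at hsum
    all_goals
      first
        | rfl
        | exact absurd (show (2 : F) = 0 by linear_combination hsum) h2
        | exact absurd (show (2 : F) = 0 by linear_combination -hsum) h2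
        | exact absurd (show (1 : F) = 0 by linear_combination hsum) one_ne_zero
        | exact absurd (show (1 : F) = 0 by linear_combination -hsum) one_ne_zero
  obtain ⟨p, q, hpq, hs⟩ := Finset.card_eq_two.1 (hk.trans hk2)
  have hp : p ∈ supp w := by rw [hs]; simp
  have hq : q ∈ supp w := by rw [hs]; simp
  have hp1 := hsq p hp
  have hq1 := hsq q hq
  rw [mem_supp] at hp hq
  refine ⟨p, q, hpq, fun h' => hp (hout p (Or.inl h')), fun h' => hp (hout p (Or.inr h')),
    fun h' => hq (hout q (Or.inl h')), fun h' => hq (hout q (Or.inr h')), w p * w q, w p,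
    by linear_combination (w q * w q) * hp1 + hq1, hp1, funext fun t => ?_⟩
  rcases eq_or_ne t p with rfl | htp
  · simp [e_apply, hpq]
  rcases eq_or_ne t q with rfl | htq
  · simp [e_apply, hpq.symm]; linear_combination -(w t) * hp1
  · simp [e_apply, htp, htq]
    exact not_mem_supp.1 (by rw [hs]; simp [htp, htq])

/-- Elements commuting with the negation of a coordinate plane are monomial. -/
theorem Six.comm_mono (hS : Six H) {a b : Fin 6} (hab : a ≠ b) {h : O F 6} (hh : h ∈ H)
    (hc : h * eps a b = eps a b * h) : Mono h := by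
  by_contra hm
  have h2 := hS.two
  obtain ⟨c, hca, hcb⟩ := (by decide : ∀ a b : Fin 6, ∃ c, c ≠ a ∧ c ≠ b) a b
  obtain ⟨d, -, -, hda, hdb, -, -, -, -, hcd, -⟩ := six_three_others a b c hab hca hcb
  obtain ⟨p, q, hpq, hpa, hpb, hqa, hqb, σ, t, hσ, ht, hw⟩ := hS.diff_root hab hh hc hm hca hcb hda hdb hcd
  have ht0 : t ≠ 0 := fun h0 => by simp [h0] at ht
  have hσn : (-1 : F) * (-1) = 1 := by ring
  -- the image of the first root of the plane
  have hu : ∀ ρ : F, ρ * ρ = 1 → Mono (R (h.1 (e a + ρ • e b)) * R (e a + (-1 : F) • e b)) := by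
    intro ρ hρ
    have h1 := (hS.toOver.rel_root (a := a) (b := b) (c := c) (d := d) hab hcd hρ hσn).map hh
    rw [hw, Rel, R_smul ht0] at h1
    have h3 : Rel H (h.1 (e a + ρ • e b)) (e a + (-1 : F) • e b) :=
      Rel.trans (y := e p + σ • e q) h1 (hS.toOver.rel_root hpq hab hσ hσn)
    refine hS.fix _ h3 c ?_
    rw [mul_apply, R_fix (show e c ⬝ᵥ (e a + (-1 : F) • e b) = 0 by
        simp [dotProduct_add, dotProduct_smul, ee_ne hca, ee_ne hcb]), R_fix]
    rw [e_dot, map_add, map_smul, Pi.add_apply, Pi.smul_apply, comm_supp h2 hab hc a c (by simp [hca, hcb]),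
      comm_supp h2 hab hc b c (by simp [hca, hcb])]
    simp
  have hshape : ∀ ρ : F, ρ * ρ = 1 → h.1 (e a + ρ • e b) a * h.1 (e a + ρ • e b) b = 0 ∨
      h.1 (e a + ρ • e b) b * h.1 (e a + ρ • e b) b = 1 := by
    intro ρ hρ
    set u := h.1 (e a + ρ • e b) with hudef
    have hun : u ⬝ᵥ u = 2 := by rw [hudef, self_map, (root_norm h2 hab hρ).1]
    have hab' : (R (e (F := F) a + (-1 : F) • e b) : O F 6).1 (e a) = e b := funext fun t => by
      rw [R_root_coord h2 hab, e_apply, e_apply]
      exact if_congr (by rw [Equiv.swap_apply_eq_iff, Equiv.swap_apply_left]) rfl rfl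
    have himg := hu ρ hρ a
    rw [← hudef] at himg
    clear_value u
    rw [mul_apply, hab', R_apply, hun, e_dot, mul_div_cancel_left₀ _ h2] at himg
    by_contra hcon
    push Not at hcon
    refine hab (Finset.card_le_one.1 himg a ?_ b ?_)
    · simp [mem_supp, e_apply, hab, mul_comm (u b), hcon.1]
    · simp [mem_supp, e_apply, sub_eq_zero]
      exact Ne.symm hcon.2
  have hsupp : ∀ x, x = a ∨ x = b → ∀ t, t ≠ a → t ≠ b → h.1 (e x) t = 0 := fun x hx t hta htb =>
    comm_supp h2 hab hc x t (by simp [hx, hta, htb])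
  set v := h.1 (e a) with hv
  set w' := h.1 (e b) with hw'
  have two_sum : ∀ f : Fin 6 → F, (∀ t, t ≠ a → t ≠ b → f t = 0) → ∑ t, f t = f a + f b := fun f hf => by
    rw [← Finset.sum_subset (Finset.subset_univ ({a, b} : Finset (Fin 6))) fun t _ ht => by
      simp only [Finset.mem_insert, Finset.mem_singleton, not_or] at ht
      exact hf t ht.1 ht.2, Finset.sum_pair hab]
  have hv1 : v a * v a + v b * v b = 1 := by
    have h1 : v ⬝ᵥ v = 1 := by rw [hv, self_map, ee]
    rw [← h1, dotProduct, two_sum _ fun t h' h'' => by rw [show v t = 0 from hsupp a (Or.inl rfl) t h' h'', zero_mul]]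
  have hw1 : w' a * w' a + w' b * w' b = 1 := by
    have h1 : w' ⬝ᵥ w' = 1 := by rw [hw', self_map, ee]
    rw [← h1, dotProduct, two_sum _ fun t h' h'' => by rw [show w' t = 0 from hsupp b (Or.inr rfl) t h' h'', zero_mul]]
  have hvw : v a * w' a + v b * w' b = 0 := by
    have h1 : v ⬝ᵥ w' = 0 := by rw [hv, hw', dot_map h h2, ee_ne hab]
    rw [← h1, dotProduct, two_sum _ fun t h' h'' => by rw [show v t = 0 from hsupp a (Or.inl rfl) t h' h'', zero_mul]]
  have hv0 : v a ≠ 0 ∧ v b ≠ 0 := by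
    constructor <;> intro h0 <;> refine hm (hS.mono_of_card hh (a := a) ?_) <;> rw [← hv]
    · refine (Finset.card_le_card (t := {b}) fun t ht => ?_).trans (Finset.card_singleton b).le
      rw [mem_supp] at ht
      rw [Finset.mem_singleton]
      by_contra htb
      exact ht ((eq_or_ne t a).elim (fun h => h ▸ h0) fun hta => hsupp a (Or.inl rfl) t hta htb)
    · refine (Finset.card_le_card (t := {a}) fun t ht => ?_).trans (Finset.card_singleton a).le
      rw [mem_supp] at ht
      rw [Finset.mem_singleton]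
      by_contra hta
      exact ht ((eq_or_ne t b).elim (fun h => h ▸ h0) fun htb => hsupp a (Or.inl rfl) t hta htb)
  -- the rotation and the entries
  obtain ⟨l, hl, hwa, hwb⟩ : ∃ l : F, l * l = 1 ∧ w' a = -l * v b ∧ w' b = l * v a := by
    refine ⟨v a * w' b - v b * w' a, ?_, ?_, ?_⟩
    · linear_combination (w' a * w' a + w' b * w' b) * hv1 + hw1 - (v a * w' a + v b * w' b) * hvw
    · linear_combination (-(w' a)) * hv1 + v a * hvw
    · linear_combination (-(w' b)) * hv1 + v b * hvw
  have e1 := hshape 1 (by ring)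
  have e2 := hshape (-1) (by ring)
  simp only [map_add, map_smul, Pi.add_apply, Pi.smul_apply, smul_eq_mul, ← hv, ← hw', hwa, hwb] at e1 e2
  have hroot : v a * v a = v b * v b := by
    rcases e1 with e1 | e1
    · linear_combination l * e1 + (l * v a * v b - (v a * v a - v b * v b)) * hl
    rcases e2 with e2 | e2
    · linear_combination -l * e2 + (-l * v a * v b - (v a * v a - v b * v b)) * hl
    exfalso
    refine mul_ne_zero (mul_ne_zero h2 h2) (mul_ne_zero hv0.1 hv0.2) ?_
    linear_combination l * e1 - l * e2 - 4 * v a * v b * hl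
  -- the frame vector goes to a root
  obtain ⟨ρ, hρ, hρv⟩ : ∃ ρ : F, ρ * ρ = 1 ∧ v = v a • (e a + ρ • e b) := by
    refine ⟨v b / v a, by rw [div_mul_div_comm, ← hroot, div_self (mul_ne_zero hv0.1 hv0.1)], funext fun t => ?_⟩
    rcases eq_or_ne t a with rfl | hta
    · simp [e_apply, hab]
    rcases eq_or_ne t b with rfl | htb
    · simp [e_apply, hab.symm]; rw [mul_div_cancel₀ _ hv0.1]
    · simp [e_apply, hta, htb]
      exact hsupp a (Or.inl rfl) t hta htb
  obtain ⟨r, s, hrs, hpr, hqr, hra, hrb, hsa, hsb, hps, hqs⟩ := (by decide :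
    ∀ a b p q : Fin 6, ∃ r s : Fin 6, r ≠ s ∧ p ≠ r ∧ q ≠ r ∧ r ≠ a ∧ r ≠ b ∧ s ≠ a ∧ s ≠ b ∧ p ≠ s ∧ q ≠ s)
    a b p q
  have h1 : Rel H (h.1 (e a)) (h.1 (e c)) := (hS.toOver.rel_e a c).map hh
  rw [← hv, hρv, Rel, R_smul hv0.1] at h1
  have h3 : Rel H (h.1 (e c)) (e p + σ • e q) :=
    (Rel.symm h1).trans (hS.toOver.rel_root hab hpq hρ hσ)
  have hmono := hS.fix _ h3 a (by
    rw [mul_apply, R_fix (show e a ⬝ᵥ (e p + σ • e q) = 0 by
      simp [dotProduct_add, dotProduct_smul, ee_ne hpa.symm, ee_ne hqa.symm]), R_fix]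
    rw [e_dot]
    exact comm_supp h2 hab hc c a (by simp [hca, hcb])) r
  rw [mul_apply, R_fix (show e r ⬝ᵥ (e p + σ • e q) = 0 by
    simp [dotProduct_add, dotProduct_smul, ee_ne hpr.symm, ee_ne hqr.symm]), R_apply, self_map, ee,
    div_one, e_dot] at hmono
  have q1 := hS.quarters hab hh hc hm hca hcb hra hrb
  have q2 := hS.quarters hab hh hc hm hca hcb hsa hsb
  refine hrs (Finset.card_le_one.1 hmono r ?_ s ?_)
  · rw [mem_supp, Pi.sub_apply, Pi.smul_apply, e_apply, if_pos rfl, smul_eq_mul]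
    intro h0
    exact one_ne_zero (show (1 : F) = 0 by linear_combination 2 * h0 + q1)
  · rw [mem_supp, Pi.sub_apply, Pi.smul_apply, e_apply, if_neg hrs.symm, smul_eq_mul, zero_sub, neg_ne_zero]
    exact mul_ne_zero (mul_ne_zero h2 fun h0 => by simp [h0] at q1) fun h0 => by simp [h0] at q2

end CfsgLib.Geo.OFrame
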