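import Cfsg.Agent.Geo.FrameSix.Even
import Mathlib.GroupTheory.Transfer
import Mathlib.GroupTheory.Nilpotent

/-!
In the even part, the centraliser of an interchange of two pairs of coordinates is monomial.
-/

set_option autoImplicit false
set_option linter.unusedSectionVars false

namespace CfsgLib.Geo.OFrame

open QuadraticMap CfsgLib.Forms CfsgLib.Quad Matrix

/-- An involutory automorphism of a group of odd order fixing only the identity inverts it. -/
theorem inverts_of_fixed_free {G : Type*} [Group G] [Finite G] (φ : G →* G) (h2 : ∀ g, φ (φ g) = g)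
    (hfix : ∀ g, φ g = g → g = 1) (g : G) : φ g = g⁻¹ := by
  have hinj : Function.Injective fun k : G => k⁻¹ * φ k := fun a b hab => by
    have h : φ (b * a⁻¹) = b * a⁻¹ := by
      rw [map_mul, map_inv, show φ b = b * (b⁻¹ * φ b) by group, show φ a = a * (a⁻¹ * φ a) by group,
        show b⁻¹ * φ b = a⁻¹ * φ a from hab.symm]
      group
    exact (mul_inv_eq_one.1 (hfix _ h)).symm
  obtain ⟨k, rfl⟩ := (Finite.injective_iff_surjective.1 hinj) g
  simp only [map_mul, map_inv, h2]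
  group

variable {F : Type*} [Field F] [Finite F] [DecidableEq F] {H K : Subgroup (O F 6)}

/-- The centraliser of the interchange fixing both of its roots. -/
def cent₀ (K : Subgroup (O F 6)) : Subgroup (O F 6) where
  carrier := {l | l ∈ K ∧ l * tee = tee * l ∧ l.1 (rt 0 1) = rt 0 1 ∧ l.1 (rt 2 3) = rt 2 3}
  one_mem' := ⟨one_mem _, by rw [one_mul, mul_one], by rw [one_apply], by rw [one_apply]⟩
  mul_mem' := fun {a b} ha hb => ⟨mul_mem ha.1 hb.1, by rw [mul_assoc, hb.2.1, ← mul_assoc, ha.2.1, mul_assoc],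
    by rw [mul_apply, hb.2.2.1, ha.2.2.1], by rw [mul_apply, hb.2.2.2, ha.2.2.2]⟩
  inv_mem' := fun {a} ha => ⟨inv_mem ha.1, Commute.inv_left ha.2.1,
    by conv_lhs => rw [← ha.2.2.1, ← mul_apply, inv_mul_cancel, one_apply],
    by conv_lhs => rw [← ha.2.2.2, ← mul_apply, inv_mul_cancel, one_apply]⟩

theorem mem_cent₀ {l : O F 6} : l ∈ cent₀ K ↔
    l ∈ K ∧ l * tee = tee * l ∧ l.1 (rt 0 1) = rt 0 1 ∧ l.1 (rt 2 3) = rt 2 3 := Iff.rfl

set_option synthInstance.maxSize 20000 in
theorem perm_pairs : ∀ i j : Fin 6, i ≠ j → i ≠ 0 → i ≠ 1 → i ≠ 2 → i ≠ 3 → j ≠ 0 → j ≠ 1 → j ≠ 2 → j ≠ 3 →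
    (i = 4 ∧ j = 5) ∨ (i = 5 ∧ j = 4) := by decide

/-- The monomial elements there have order two. -/
theorem Core.mono_sq (hC : Core H K) {l : O F 6} (hl : l ∈ cent₀ K) (hm : Mono l) : l * l = 1 := by
  have h2 := hC.six.two
  obtain ⟨hlK, -, h01, h23⟩ := mem_cent₀.1 hl
  obtain ⟨π, s, hπs, hs, hπ⟩ := hC.even l hlK hm
  have hfix : ∀ a b : Fin 6, a ≠ b → l.1 (rt a b) = rt a b →
      (π a = a ∧ π b = b ∧ s a * s b = 1) ∨ (π a = b ∧ π b = a ∧ s a * s b = 1) := by
    intro a b hab heq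
    have key : ∀ t, (s a * if t = π a then (1 : F) else 0) + -(s b * if t = π b then (1 : F) else 0) =
        (if t = a then 1 else 0) + -if t = b then (1 : F) else 0 := fun t => by
      have := congrFun heq t
      simpa [rt, hπ, e_apply] using this
    have hne := π.injective.ne hab
    have ka : s a = (if π a = a then (1 : F) else 0) + -if π a = b then (1 : F) else 0 := by
      simpa [hne] using key (π a)
    have kb : -(s b) = (if π b = a then (1 : F) else 0) + -if π b = b then (1 : F) else 0 := by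
      simpa [hne.symm] using key (π b)
    have hsa : s a ≠ 0 := fun h0 => by simpa [h0] using hs a
    have hsb : s b ≠ 0 := fun h0 => by simpa [h0] using hs b
    by_cases h1 : π a = a
    · have hba : π b ≠ a := fun h => hne (h1.trans h.symm)
      have hab' : π a ≠ b := fun h => hab (h1.symm.trans h)
      simp only [h1, hba, hab, if_true, if_false, neg_zero, add_zero, zero_add] at ka kb
      by_cases h3 : π b = b
      · simp only [h3, if_true, neg_inj] at kb
        exact Or.inl ⟨h1, h3, by rw [ka, kb, one_mul]⟩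
      · simp only [h3, if_false, neg_zero, neg_eq_zero] at kb
        exact absurd kb hsb
    · by_cases h3 : π a = b
      · have hbb : π b ≠ b := fun h => hne (h3.trans h.symm)
        simp only [h3, hab.symm, hbb, if_true, if_false, neg_zero, add_zero, zero_add] at ka kb
        by_cases h4 : π b = a
        · simp only [h4, if_true] at kb
          exact Or.inr ⟨h3, h4, by rw [ka]; linear_combination kb⟩
        · simp only [h4, if_false, neg_eq_zero] at kb
          exact absurd kb hsb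
      · simp only [h1, h3, if_false, neg_zero, add_zero] at ka
        exact absurd ka hsa
  have hp := hC.six.toOver.sign_prod (hC.le hlK) hπs hs hπ
  rw [Fin.prod_univ_six] at hp
  have A := hfix 0 1 (by decide) h01
  have B := hfix 2 3 (by decide) h23
  have h45 : s 4 = s 5 := by
    have a1 : s 0 * s 1 = 1 := A.elim (fun h => h.2.2) fun h => h.2.2
    have b1 : s 2 * s 3 = 1 := B.elim (fun h => h.2.2) fun h => h.2.2
    linear_combination (s 5) * hp - (s 4) * (s 5 * s 5) * (s 2 * s 3) * a1 - (s 4) * (s 5 * s 5) * b1 -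
      (s 4) * hs 5
  have hne : ∀ i : Fin 6, i = 4 ∨ i = 5 → π i ≠ 0 ∧ π i ≠ 1 ∧ π i ≠ 2 ∧ π i ≠ 3 := by
    intro i hi
    refine ⟨fun h => ?_, fun h => ?_, fun h => ?_, fun h => ?_⟩
    all_goals
      rcases A with ⟨a0, a1, -⟩ | ⟨a0, a1, -⟩ <;> rcases B with ⟨b0, b1, -⟩ | ⟨b0, b1, -⟩ <;>
        rcases hi with rfl | rfl <;>
        first
          | exact absurd (π.injective (h.trans a0.symm)) (by decide)
          | exact absurd (π.injective (h.trans a1.symm)) (by decide)
          | exact absurd (π.injective (h.trans b0.symm)) (by decide)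
          | exact absurd (π.injective (h.trans b1.symm)) (by decide)
  have C4 := hne 4 (Or.inl rfl)
  have C5 := hne 5 (Or.inr rfl)
  refine O_ext fun i => ?_
  rw [mul_apply, hπ, map_smul, hπ, smul_smul, one_apply]
  suffices h : π (π i) = i ∧ s i * s (π i) = 1 by rw [h.1, h.2, one_smul]
  rcases A with ⟨a0, a1, a2⟩ | ⟨a0, a1, a2⟩ <;> rcases B with ⟨b0, b1, b2⟩ | ⟨b0, b1, b2⟩ <;>
    rcases perm_pairs (π 4) (π 5) (π.injective.ne (by decide)) C4.1 C4.2.1 C4.2.2.1 C4.2.2.2 C5.1 C5.2.1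
      C5.2.2.1 C5.2.2.2 with ⟨c0, c1⟩ | ⟨c0, c1⟩ <;>
    fin_cases i <;> simp [a0, a1, b0, b1, c0, c1, a2, b2, h45, hs, mul_comm (s 1), mul_comm (s 3)]

theorem tee_fixed_span {v : Fin 6 → F} (h2 : (2 : F) ≠ 0) (h : (tee : O F 6).1 v = -v) :
    v = v 0 • rt 0 1 + v 2 • rt 2 3 := by
  have hc : ∀ t, (tee : O F 6).1 v t = -v t := fun t => congrFun h t
  have a0 := hc 0; have a2 := hc 2; have a4 := hc 4; have a5 := hc 5
  rw [tee_coord h2] at a0 a2 a4 a5
  simp at a0 a2 a4 a5
  have z4 : v 4 = 0 := (mul_eq_zero.1 (show (2 : F) * v 4 = 0 by linear_combination a4)).resolve_left h2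
  have z5 : v 5 = 0 := (mul_eq_zero.1 (show (2 : F) * v 5 = 0 by linear_combination a5)).resolve_left h2
  funext t
  fin_cases t <;> simp [rt, e_apply, z4, z5, a0, a2]

theorem tee_rt (h2 : (2 : F) ≠ 0) :
    (tee : O F 6).1 (rt 0 1) = -rt 0 1 ∧ (tee : O F 6).1 (rt 2 3) = -rt 2 3 := by
  constructor <;>
    exact funext fun t => by rw [tee_coord h2]; fin_cases t <;> simp [rt, e_apply]

/-- The monomial elements among those fixing both roots. -/
noncomputable def centMono (K : Subgroup (O F 6)) : Subgroup ↥(cent₀ K) := (monoSub F 6).subgroupOf (cent₀ K)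

theorem Core.conj_cent₀ (hC : Core H K) {l k : O F 6} (hlK : l ∈ K) (hlt : l * tee = tee * l)
    (hk : k ∈ cent₀ K) : l * k * l⁻¹ ∈ cent₀ K := by
  have h2 := hC.six.two
  obtain ⟨hkK, hkt, h01, h23⟩ := mem_cent₀.1 hk
  refine mem_cent₀.2 ⟨mul_mem (mul_mem hlK hkK) (inv_mem hlK), ?_, ?_, ?_⟩
  · exact ((Commute.mul_left (Commute.mul_left hlt hkt) (Commute.inv_left hlt)) :
      Commute (l * k * l⁻¹) tee)
  all_goals
    have hspan : ∀ v, (tee : O F 6).1 v = -v → k.1 v = v := fun v hv => by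
      rw [tee_fixed_span h2 hv, map_add, map_smul, map_smul, h01, h23]
    rw [mul_apply, mul_apply, hspan _ ?_, ← mul_apply l l⁻¹, mul_inv_cancel, one_apply]
    rw [← mul_apply, ← (Commute.inv_left hlt : Commute l⁻¹ tee).eq, mul_apply]
    first
      | rw [(tee_rt h2).1, map_neg]
      | rw [(tee_rt h2).2, map_neg]

theorem Core.eps45_cent₀ (hC : Core H K) : eps (4 : Fin 6) 5 ∈ cent₀ K := by
  have h2 := hC.six.two
  refine mem_cent₀.2 ⟨hC.mem _ (hC.six.toOver.eps_mem 4 5) (evenMono_eps (by decide)), O_ext fun i =>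
    funext fun t => ?_, funext fun t => ?_, funext fun t => ?_⟩
  · rw [mul_apply, mul_apply, eps_coord (by decide), tee_coord h2, tee_coord h2]
    fin_cases t <;> simp [eps_coord (show (4 : Fin 6) ≠ 5 by decide)]
  all_goals
    rw [eps_coord (by decide)]
    fin_cases t <;> simp [rt, e_apply]

theorem root_coord (h2 : (2 : F) ≠ 0) {a b : Fin 6} (hab : a ≠ b) {σ : F} (hσ : σ * σ = 1)
    (v : Fin 6 → F) (t : Fin 6) :
    (R (e a + σ • e b) : O F 6).1 v t = if t = a then -σ * v b else if t = b then -σ * v a else v t := by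
  rw [R_apply, (root_norm h2 hab hσ).1, mul_div_cancel_left₀ _ h2]
  simp only [dotProduct_add, dotProduct_smul, dot_e, smul_eq_mul, Pi.sub_apply, Pi.smul_apply, Pi.add_apply,
    e_apply]
  split_ifs with h1 h3
  · exact absurd (h1.symm.trans h3) hab
  · subst h1; ring
  · subst_vars; linear_combination (-(v t)) * hσ
  · ring

/-- The involutions among those fixing both roots. -/
noncomputable def teeLike (ρ : F) : O F 6 := R (e 0 + (1 : F) • e 1) * R (e 4 + ρ • e 5)

theorem teeLike_coord (h2 : (2 : F) ≠ 0) {ρ : F} (hρ : ρ * ρ = 1) (v : Fin 6 → F) :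
    (teeLike ρ : O F 6).1 v = ![-v 1, -v 0, v 2, v 3, -ρ * v 5, -ρ * v 4] := funext fun t => by
  rw [teeLike, mul_apply, root_coord h2 (by decide) (by ring), root_coord h2 (by decide) hρ,
    root_coord h2 (by decide) hρ, root_coord h2 (by decide) hρ]
  fin_cases t <;> simp

theorem Core.teeLike_cent₀ (hC : Core H K) {ρ : F} (hρ : ρ * ρ = 1) : teeLike ρ ∈ cent₀ K := by
  have h2 := hC.six.two
  obtain ⟨m, hm, hmm, hmc⟩ := hC.six.toOver.conj_tee (show (0 : Fin 6) ≠ 1 by decide)
    (show (0 : Fin 6) ≠ 4 by decide) (show (0 : Fin 6) ≠ 5 by decide) (show (1 : Fin 6) ≠ 4 by decide)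
    (show (1 : Fin 6) ≠ 5 by decide) (show (4 : Fin 6) ≠ 5 by decide) (show (1 : F) * 1 = 1 by ring) hρ
  have htK : (tee : O F 6) ∈ K := hC.mem _ (hC.six.toOver.rel_root (by decide) (by decide) (by ring) (by ring))
    (evenMono_tee h2)
  refine mem_cent₀.2 ⟨by rw [teeLike, ← hmc]; exact hC.conj m hm _ htK, O_ext fun i => funext fun t => ?_,
    funext fun t => ?_, funext fun t => ?_⟩
  · rw [mul_apply, mul_apply, teeLike_coord h2 hρ, tee_coord h2, tee_coord h2, teeLike_coord h2 hρ]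
    fin_cases t <;> simp
  all_goals
    rw [teeLike_coord h2 hρ]
    fin_cases t <;> simp [rt, e_apply]

theorem teeLike_mono (h2 : (2 : F) ≠ 0) {ρ : F} (hρ : ρ * ρ = 1) : Mono (teeLike ρ) :=
  (mono_R_root h2 (by decide) (by ring)).mul (mono_R_root h2 (by decide) hρ)

theorem teeLike_other (h2 : (2 : F) ≠ 0) {ρ : F} (hρ : ρ * ρ = 1) :
    neg6 * tee * teeLike ρ = (R (e 2 + (1 : F) • e 3) * R (e 4 + (-ρ) • e 5) : O F 6) := by
  have hρ' : -ρ * -ρ = 1 := by rw [neg_mul_neg, hρ]
  refine O_ext fun i => funext fun t => ?_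
  rw [mul_apply, mul_apply, neg6_apply, tee_coord h2, teeLike_coord h2 hρ, mul_apply,
    root_coord h2 (by decide) (by ring), root_coord h2 (by decide) hρ', root_coord h2 (by decide) hρ',
    root_coord h2 (by decide) hρ']
  fin_cases t <;> simp

/-- Elements of the even centraliser move the two roots to themselves, up to order and sign. -/
theorem Core.cent_shape (hC : Core H K) {l : O F 6} (hl : l ∈ K) (hlt : l * tee = tee * l) :
    ∀ v, v = rt 0 1 ∨ v = rt 2 3 → ∃ σ : F, σ * σ = 1 ∧ (l.1 v = σ • rt 0 1 ∨ l.1 v = σ • rt 2 3) := by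
  classical
  have h2 := hC.six.two
  set T := centMono K
  have hsq : ∀ x : ↥T, x * x = 1 := fun x => Subtype.ext (Subtype.ext
    (hC.mono_sq x.1.2 (Subgroup.mem_subgroupOf.1 x.2)))
  have : Fact (Nat.Prime 2) := ⟨Nat.prime_two⟩
  have hT2 : IsPGroup 2 T := fun x => ⟨1, by rw [pow_one, pow_two, hsq]⟩
  set a : ↥(cent₀ K) := ⟨_, hC.eps45_cent₀⟩ with ha
  have haT : a ∈ T := Subgroup.mem_subgroupOf.2 (evenMono_eps (by decide)).mono
  have hnorm : Subgroup.normalizer (T : Set ↥(cent₀ K)) ≤ T := fun n hn => by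
    have h := (Subgroup.mem_normalizer_iff.1 hn a).1 haT
    exact Subgroup.mem_subgroupOf.2 (hC.six.mono_of_eps (hC.le n.2.1) (show (4 : Fin 6) ≠ 5 by decide)
      (Subgroup.mem_subgroupOf.1 h))
  obtain ⟨P, hTP⟩ := hT2.exists_le_sylow
  have hPT : (P : Subgroup ↥(cent₀ K)) = T := by
    by_contra hne
    have hlt' : T.subgroupOf (P : Subgroup ↥(cent₀ K)) < ⊤ := lt_top_iff_ne_top.2 fun h => hne
      (le_antisymm (fun x hx => by
        have : (⟨x, hx⟩ : (P : Subgroup ↥(cent₀ K))) ∈ T.subgroupOf P := h ▸ Subgroup.mem_top _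
        exact this) hTP)
    have : Group.IsNilpotent (P : Subgroup ↥(cent₀ K)) := P.isPGroup'.isNilpotent
    obtain ⟨n, hn, hnT⟩ := SetLike.exists_of_lt (normalizerCondition_of_isNilpotent _ hlt')
    refine hnT (Subgroup.mem_subgroupOf.2 (hnorm (Subgroup.mem_normalizer_iff.2 fun x => ?_)))
    rw [Subgroup.mem_normalizer_iff] at hn
    constructor
    · intro hx
      exact (hn ⟨x, hTP hx⟩).1 hx
    · intro hx
      have hxP : x ∈ (P : Subgroup ↥(cent₀ K)) := by
        have := mul_mem (mul_mem (inv_mem n.2) (hTP hx)) n.2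
        simpa [mul_assoc] using this
      exact (hn ⟨x, hxP⟩).2 hx
  have hconj := hC.conj_cent₀ hl hlt hC.eps45_cent₀
  set y : ↥(cent₀ K) := ⟨_, hconj⟩ with hy
  have hy2 : y * y = 1 := Subtype.ext (by
    show l * eps 4 5 * l⁻¹ * (l * eps 4 5 * l⁻¹) = 1
    rw [show l * eps 4 5 * l⁻¹ * (l * eps 4 5 * l⁻¹) = l * (eps 4 5 * eps 4 5) * l⁻¹ by group,
      eps_sq (by decide), mul_one, mul_inv_cancel])
  have hZ : IsPGroup 2 (Subgroup.zpowers y) := by
    rintro ⟨z, k, rfl⟩
    refine ⟨1, Subtype.ext ?_⟩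
    simp only [pow_one, SubmonoidClass.coe_pow, Subgroup.coe_one]
    rw [← _root_.zpow_natCast, ← _root_.zpow_mul, mul_comm, _root_.zpow_mul, _root_.zpow_natCast, pow_two, hy2, _root_.one_zpow]
  obtain ⟨P', hP'⟩ := hZ.exists_le_sylow
  obtain ⟨k, hk⟩ := MulAction.exists_smul_eq ↥(cent₀ K) P' P
  have hkey : k * y * k⁻¹ ∈ T := by
    rw [← hPT, ← hk]
    exact Subgroup.smul_mem_pointwise_smul y (MulAut.conj k) _ (hP' (Subgroup.mem_zpowers y))
  have hmono : Mono ((k : O F 6) * l) := by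
    refine hC.six.mono_of_eps (mul_mem (hC.le k.2.1) (hC.le hl)) (show (4 : Fin 6) ≠ 5 by decide) ?_
    have : Mono ((k : O F 6) * (l * eps 4 5 * l⁻¹) * (k : O F 6)⁻¹) := Subgroup.mem_subgroupOf.1 hkey
    rw [show (k : O F 6) * l * eps 4 5 * ((k : O F 6) * l)⁻¹ =
      (k : O F 6) * (l * eps 4 5 * l⁻¹) * (k : O F 6)⁻¹ by group]
    exact this
  obtain ⟨-, hkt, k01, k23⟩ := mem_cent₀.1 k.2
  obtain ⟨π, s, hs, hπ⟩ := hmono.exists_perm
  intro v hv
  have hvt : (tee : O F 6).1 v = -v := by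
    rcases hv with rfl | rfl
    exacts [(tee_rt h2).1, (tee_rt h2).2]
  have hwt : (tee : O F 6).1 (l.1 v) = -l.1 v := by rw [← mul_apply, ← hlt, mul_apply, hvt, map_neg]
  have hkl : ((k : O F 6) * l).1 v = l.1 v := by
    rw [mul_apply]
    conv_lhs => rw [tee_fixed_span h2 hwt, map_add, map_smul, map_smul, k01, k23]
    exact (tee_fixed_span h2 hwt).symm
  have hw := tee_fixed_span h2 hwt
  set w := l.1 v with hwdef
  have hsupp : (supp w).card ≤ 2 := by
    rw [← hkl, supp_mono_image hs hπ]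
    refine Finset.card_image_le.trans ?_
    rcases hv with rfl | rfl
    · refine (Finset.card_le_card (t := {0, 1}) fun t ht => ?_).trans Finset.card_le_two
      rw [mem_supp] at ht
      fin_cases t <;> simp [rt, e_apply] at ht ⊢
    · refine (Finset.card_le_card (t := {2, 3}) fun t ht => ?_).trans Finset.card_le_two
      rw [mem_supp] at ht
      fin_cases t <;> simp [rt, e_apply] at ht ⊢
  have hn : w ⬝ᵥ w = 2 := by
    rw [hwdef, self_map]
    rcases hv with rfl | rfl <;> exact (root_norm h2 (by decide) (by ring)).1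
  have hn' : 2 * (w 0 * w 0) + 2 * (w 2 * w 2) = 2 := by
    conv_rhs => rw [← hn, hw]
    simp [rt, add_dotProduct, dotProduct_add, ee, ee_ne (show (0 : Fin 6) ≠ 1 by decide),
      ee_ne (show (1 : Fin 6) ≠ 0 by decide), ee_ne (show (0 : Fin 6) ≠ 2 by decide),
      ee_ne (show (2 : Fin 6) ≠ 0 by decide), ee_ne (show (0 : Fin 6) ≠ 3 by decide),
      ee_ne (show (3 : Fin 6) ≠ 0 by decide), ee_ne (show (1 : Fin 6) ≠ 2 by decide),
      ee_ne (show (2 : Fin 6) ≠ 1 by decide), ee_ne (show (1 : Fin 6) ≠ 3 by decide),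
      ee_ne (show (3 : Fin 6) ≠ 1 by decide), ee_ne (show (2 : Fin 6) ≠ 3 by decide),
      ee_ne (show (3 : Fin 6) ≠ 2 by decide)]
    ring
  have hz : w 0 = 0 ∨ w 2 = 0 := by
    by_contra hcon
    push Not at hcon
    have h3 : ({0, 1, 2} : Finset (Fin 6)) ⊆ supp w := fun t ht => by
      rw [mem_supp, hw]
      fin_cases ht <;> simp [rt, e_apply, hcon.1, hcon.2]
    have := Finset.card_le_card h3
    simp at this
    omega
  rcases hz with hz | hz
  · refine ⟨w 2, mul_left_cancel₀ h2 (by rw [hz] at hn'; linear_combination hn'), Or.inr ?_⟩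
    conv_lhs => rw [hw, hz, zero_smul, zero_add]
  · refine ⟨w 0, mul_left_cancel₀ h2 (by rw [hz] at hn'; linear_combination hn'), Or.inl ?_⟩
    conv_lhs => rw [hw, hz, zero_smul, add_zero]

/-- A fixed root pair. -/
theorem pow_four_fix {k : O F 6} {u v : Fin 6 → F} (huv : u ⬝ᵥ v = 0) (hu : u ⬝ᵥ u ≠ 0) (h2 : (2 : F) ≠ 0)
    (h : ∀ x, x = u ∨ x = v → ∃ σ : F, σ * σ = 1 ∧ (k.1 x = σ • u ∨ k.1 x = σ • v)) :
    (k ^ 4).1 u = u ∧ (k ^ 4).1 v = v := by
  obtain ⟨σ, hσ, hu'⟩ := h u (Or.inl rfl)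
  obtain ⟨τ, hτ, hv'⟩ := h v (Or.inr rfl)
  have e4 : ∀ x, (k ^ 4).1 x = k.1 (k.1 (k.1 (k.1 x))) := fun x => by
    simp [pow_succ, mul_apply, one_apply]
  rw [e4, e4]
  have hne : ∀ {a b : F}, a * a = 1 → b * b = 1 → ∀ {w : Fin 6 → F}, w ⬝ᵥ w ≠ 0 → k.1 u = a • w → k.1 v = b • w →
      False := fun {a b} ha hb {w} hw h1 h1' => by
    have h3 := dot_map k h2 u v
    rw [h1, h1', huv, smul_dotProduct, dotProduct_smul, smul_eq_mul, smul_eq_mul, ← mul_assoc] at h3
    refine (mul_eq_zero.1 h3).elim (fun h0 => ?_) hw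
    rcases mul_eq_zero.1 h0 with h0 | h0
    · simp [h0] at ha
    · simp [h0] at hb
  rcases hu' with hu' | hu' <;> rcases hv' with hv' | hv'
  · exact (hne hσ hτ hu hu' hv').elim
  · constructor <;> simp [hu', hv', map_smul, smul_smul, hσ, hτ]
  · constructor <;> simp [hu', hv', map_smul, smul_smul]
    · rw [show σ * τ * σ * τ = 1 by linear_combination (τ * τ) * hσ + hτ, one_smul]
    · rw [show τ * σ * τ * σ = 1 by linear_combination (τ * τ) * hσ + hτ, one_smul]
  · have hv : v ⬝ᵥ v ≠ 0 := by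
      have := self_map k u
      rw [hu', smul_dotProduct, dotProduct_smul, smul_eq_mul, smul_eq_mul, ← mul_assoc, hσ, one_mul] at this
      rw [this]; exact hu
    exact (hne hσ hτ hv hu' hv').elim

set_option maxHeartbeats 1000000 in
/-- The centraliser of the interchange in the even part is monomial. -/
theorem Core.cent_mono (hC : Core H K) {l : O F 6} (hl : l ∈ K) (hlt : l * tee = tee * l) : Mono l := by
  classical
  have h2 := hC.six.two
  have hO := hC.six.toOver
  set T := centMono K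
  have : Fact (Nat.Prime 2) := ⟨Nat.prime_two⟩
  have hsq : ∀ x : ↥T, x * x = 1 := fun x => Subtype.ext (Subtype.ext
    (hC.mono_sq x.1.2 (Subgroup.mem_subgroupOf.1 x.2)))
  have hT2 : IsPGroup 2 T := fun x => ⟨1, by rw [pow_one, pow_two, hsq]⟩
  set a : ↥(cent₀ K) := ⟨_, hC.eps45_cent₀⟩ with ha
  have haT : a ∈ T := Subgroup.mem_subgroupOf.2 (evenMono_eps (by decide)).mono
  have hnorm : Subgroup.normalizer (T : Set ↥(cent₀ K)) ≤ T := fun n hn => by
    have h := (Subgroup.mem_normalizer_iff.1 hn a).1 haT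
    exact Subgroup.mem_subgroupOf.2 (hC.six.mono_of_eps (hC.le n.2.1) (show (4 : Fin 6) ≠ 5 by decide)
      (Subgroup.mem_subgroupOf.1 h))
  obtain ⟨P, hTP⟩ := hT2.exists_le_sylow
  have hPT : (P : Subgroup ↥(cent₀ K)) = T := by
    by_contra hne
    have hlt' : T.subgroupOf (P : Subgroup ↥(cent₀ K)) < ⊤ := lt_top_iff_ne_top.2 fun h => hne
      (le_antisymm (fun x hx => by
        have : (⟨x, hx⟩ : (P : Subgroup ↥(cent₀ K))) ∈ T.subgroupOf P := h ▸ Subgroup.mem_top _
        exact this) hTP)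
    have : Group.IsNilpotent (P : Subgroup ↥(cent₀ K)) := P.isPGroup'.isNilpotent
    obtain ⟨n, hn, hnT⟩ := SetLike.exists_of_lt (normalizerCondition_of_isNilpotent _ hlt')
    refine hnT (Subgroup.mem_subgroupOf.2 (hnorm (Subgroup.mem_normalizer_iff.2 fun x => ?_)))
    rw [Subgroup.mem_normalizer_iff] at hn
    constructor
    · intro hx
      exact (hn ⟨x, hTP hx⟩).1 hx
    · intro hx
      have hxP : x ∈ (P : Subgroup ↥(cent₀ K)) := by
        have := mul_mem (mul_mem (inv_mem n.2) (hTP hx)) n.2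
        simpa [mul_assoc] using this
      exact (hn ⟨x, hxP⟩).2 hx
  have hcent : Subgroup.normalizer (P : Set ↥(cent₀ K)) ≤ Subgroup.centralizer (P : Set ↥(cent₀ K)) := by
    intro n hn
    have hnP : n ∈ T := hnorm (by
      rw [show ((P : Set ↥(cent₀ K))) = ((T : Set ↥(cent₀ K))) by rw [← hPT]; rfl] at hn
      exact hn)
    refine Subgroup.mem_centralizer_iff.2 fun x hx => ?_
    have hxT : x ∈ T := hPT ▸ hx
    have e1 : ∀ y ∈ T, y * y = 1 := fun y hy => congrArg Subtype.val (hsq ⟨y, hy⟩)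
    calc x * n = (x * n) * ((n * x) * (n * x)) := by rw [e1 _ (mul_mem hnP hxT), mul_one]
      _ = (x * (n * n) * x) * (n * x) := by simp only [mul_assoc]
      _ = n * x := by rw [e1 n hnP, mul_one, e1 x hxT, one_mul]
  set N := (MonoidHom.transferSylow P hcent).ker with hN
  have hodd : ¬ 2 ∣ Nat.card N := MonoidHom.not_dvd_card_ker_transferSylow P hcent
  have hcompl := MonoidHom.ker_transferSylow_isComplement' P hcent
  have hsplit : ∀ g : ↥(cent₀ K), g ∈ T → g ∈ N → g = 1 := fun g hg hgN => by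
    have := hcompl.disjoint.le_bot (Subgroup.mem_inf.2 ⟨hgN, hPT ▸ hg⟩)
    exact Subgroup.mem_bot.1 this
  have hpow : ∀ g : ↥(cent₀ K), g ∈ N → g ^ 4 = 1 → g = 1 := by
    intro g hg h4
    rw [← orderOf_eq_one_iff]
    have h1 : orderOf g ∣ Nat.card N := by
      rw [← Subgroup.orderOf_mk g hg]; exact orderOf_dvd_natCard _
    have h3 : orderOf g ∣ 4 := orderOf_dvd_of_pow_eq_one h4
    have := Nat.le_of_dvd (by norm_num) h3
    interval_cases h : orderOf g
    · simp at h3
    · rfl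
    · exact absurd h1 hodd
    · norm_num at h3
    · exact absurd (dvd_trans (by norm_num : 2 ∣ 4) h1) hodd
  -- the three involutions act without fixed points
  have hfa : ∀ g : ↥(cent₀ K), g ∈ N → a * g = g * a → g = 1 := fun g hg hcomm => by
    refine hsplit g (Subgroup.mem_subgroupOf.2 ?_) hg
    exact hC.six.comm_mono (show (4 : Fin 6) ≠ 5 by decide) (hC.le g.2.1) (congrArg Subtype.val hcomm).symm
  have hfb : ∀ ρ : F, ∀ hρ : ρ * ρ = 1, ∀ g : ↥(cent₀ K), g ∈ N →
      (⟨_, hC.teeLike_cent₀ hρ⟩ : ↥(cent₀ K)) * g = g * ⟨_, hC.teeLike_cent₀ hρ⟩ → g = 1 := by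
    intro ρ hρ g hg hcomm
    refine hpow g hg (Subtype.ext ?_)
    obtain ⟨hgK, hgt, g01, g23⟩ := mem_cent₀.1 g.2
    have hgb : (g : O F 6) * teeLike ρ = teeLike ρ * (g : O F 6) := (congrArg Subtype.val hcomm).symm
    have hρ' : -ρ * -ρ = 1 := by rw [neg_mul_neg, hρ]
    have h1 : (1 : F) * 1 = 1 := one_mul 1
    -- each of the two planes is kept
    have key : ∀ a b c d : Fin 6, ∀ σ τ : F, σ * σ = 1 → τ * τ = 1 → a ≠ b → a ≠ c → a ≠ d → b ≠ c → b ≠ d →
        c ≠ d → (g : O F 6) * (R (e a + σ • e b) * R (e c + τ • e d)) =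
          R (e a + σ • e b) * R (e c + τ • e d) * (g : O F 6) →
        ((g : O F 6) ^ 4).1 (e a + σ • e b) = e a + σ • e b ∧
          ((g : O F 6) ^ 4).1 (e c + τ • e d) = e c + τ • e d := by
      intro a b c d σ τ hσ hτ hab hac had hbc hbd hcd hcom
      obtain ⟨m, hm, -, hmc⟩ := hO.conj_tee hab hac had hbc hbd hcd hσ hτ
      have hshape := hC.cent_shape (l := m⁻¹ * g * m)
        (by simpa using hC.conj _ (inv_mem hm) _ hgK) (by
          calc m⁻¹ * (g : O F 6) * m * tee = m⁻¹ * ((g : O F 6) * (m * tee * m⁻¹)) * m := by group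
            _ = m⁻¹ * (m * tee * m⁻¹ * (g : O F 6)) * m := by rw [hmc, hcom]
            _ = tee * (m⁻¹ * (g : O F 6) * m) := by group)
      have h01 := pow_four_fix (k := m⁻¹ * (g : O F 6) * m) (u := rt 0 1) (v := rt 2 3)
        (by simp [rt, add_dotProduct, dot_e, dotProduct_add, e_apply])
        (by rw [rt, (root_norm h2 (by decide) (by ring)).1]; exact h2) h2 hshape
      rw [show (m⁻¹ * (g : O F 6) * m) ^ 4 = m⁻¹ * (g : O F 6) ^ 4 * m by
        simp only [pow_succ, pow_zero, one_mul, mul_assoc, mul_inv_cancel_left]] at h01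
      have hfix : ∀ x, (m⁻¹ * (g : O F 6) ^ 4 * m).1 x = x → ((g : O F 6) ^ 4).1 (m.1 x) = m.1 x := fun x hx => by
        conv_rhs => rw [← hx, ← mul_apply, ← mul_assoc, ← mul_assoc, mul_inv_cancel, one_mul, mul_apply]
      have hpair : ∀ x, (R (e a + σ • e b) * R (e c + τ • e d) : O F 6).1 x = -x →
          ((g : O F 6) ^ 4).1 x = x := by
        intro x hx
        have hx' : (tee : O F 6).1 ((m⁻¹).1 x) = -(m⁻¹).1 x := by
          rw [← map_neg, ← hx, ← hmc, ← mul_apply, ← mul_apply]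
          congr 2
          group
        have e1 := hfix _ h01.1
        have e3 := hfix _ h01.2
        rw [show x = m.1 ((m⁻¹).1 x) by rw [← mul_apply, mul_inv_cancel, one_apply],
          tee_fixed_span h2 hx', map_add, map_smul, map_smul, map_add, map_smul, map_smul, e1, e3]
      constructor
      · refine hpair _ (funext fun t => ?_)
        rw [mul_apply, R_fix (show (e a + σ • e b) ⬝ᵥ (e c + τ • e d) = 0 by
          simp [add_dotProduct, dot_e, dotProduct_add, e_apply, hac.symm, had.symm, hbc.symm, hbd.symm]),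
          R_neg (by rw [(root_norm h2 hab hσ).1]; exact h2)]
      · refine hpair _ (funext fun t => ?_)
        rw [mul_apply, R_neg (by rw [(root_norm h2 hcd hτ).1]; exact h2), map_neg, R_fix (show (e c + τ • e d) ⬝ᵥ (e a + σ • e b) = 0 by
          simp [add_dotProduct, dot_e, dotProduct_add, e_apply, hac, had, hbc, hbd])]
    have k1 := key 0 1 4 5 1 ρ h1 hρ (by decide) (by decide) (by decide) (by decide) (by decide) (by decide) hgb
    have k2 := key 2 3 4 5 1 (-ρ) h1 hρ' (by decide) (by decide) (by decide) (by decide) (by decide) (by decide) (by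
      rw [← teeLike_other h2 hρ]
      calc (g : O F 6) * (neg6 * tee * teeLike ρ) = neg6 * ((g : O F 6) * tee) * teeLike ρ := by
            rw [← mul_assoc, ← mul_assoc, ← neg6_comm, mul_assoc neg6]
        _ = neg6 * tee * ((g : O F 6) * teeLike ρ) := by rw [hgt]; simp only [mul_assoc]
        _ = neg6 * tee * teeLike ρ * (g : O F 6) := by rw [hgb, ← mul_assoc])
    have hd : ((g : O F 6) ^ 4).1 (rt 0 1) = rt 0 1 ∧ ((g : O F 6) ^ 4).1 (rt 2 3) = rt 2 3 := by
      have e4 : ∀ x, ((g : O F 6) ^ 4).1 x = (g : O F 6).1 ((g : O F 6).1 ((g : O F 6).1 ((g : O F 6).1 x))) :=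
        fun x => by simp [pow_succ, mul_apply, one_apply]
      exact ⟨by rw [e4, g01, g01, g01, g01], by rw [e4, g23, g23, g23, g23]⟩
    rw [SubmonoidClass.coe_pow, Subgroup.coe_one]
    refine O_ext fun i => ?_
    rw [one_apply]
    set r := (((g : O F 6) ^ 4).1) with hr
    have c2 : (2 : F) • r (e i) = (2 : F) • e i := by
      rw [← map_smul]
      have hi : ∃ x y : Fin 6 → F, (2 : F) • e i = x + y ∧ r x = x ∧ r y = y := by
        fin_cases i
        · exact ⟨rt 0 1, e 0 + (1 : F) • e 1, funext fun t => by fin_cases t <;> simp [rt, e_apply]; norm_num,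
            hd.1, k1.1⟩
        · exact ⟨(-1 : F) • rt 0 1, e 0 + (1 : F) • e 1,
            funext fun t => by fin_cases t <;> simp [rt, e_apply]; norm_num, by rw [map_smul, hd.1], k1.1⟩
        · exact ⟨rt 2 3, e 2 + (1 : F) • e 3, funext fun t => by fin_cases t <;> simp [rt, e_apply]; norm_num,
            hd.2, k2.1⟩
        · exact ⟨(-1 : F) • rt 2 3, e 2 + (1 : F) • e 3,
            funext fun t => by fin_cases t <;> simp [rt, e_apply]; norm_num, by rw [map_smul, hd.2], k2.1⟩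
        · exact ⟨e 4 + ρ • e 5, e 4 + (-ρ) • e 5,
            funext fun t => by fin_cases t <;> simp [e_apply]; norm_num, k1.2, k2.2⟩
        · exact ⟨ρ • (e 4 + ρ • e 5), (-ρ) • (e 4 + (-ρ) • e 5),
            funext fun t => by fin_cases t <;> simp [e_apply, hρ]; norm_num,
            by rw [map_smul, k1.2], by rw [map_smul, k2.2]⟩
      obtain ⟨x, y, hxy, hx, hy'⟩ := hi
      rw [hxy, map_add, hx, hy']
    exact (smul_right_injective _ h2) c2
  -- so the odd part is trivial
  have hNn : N.Normal := MonoidHom.normal_ker _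
  have hinv : ∀ b : ↥(cent₀ K), b * b = 1 → (∀ g ∈ N, b * g = g * b → g = 1) → ∀ g ∈ N, b * g * b = g⁻¹ := by
    intro b hb hfree g hg
    have hbi : b⁻¹ = b := inv_eq_of_mul_eq_one_right hb
    let φ : ↥N →* ↥N :=
      { toFun := fun x => ⟨b * x * b⁻¹, hNn.conj_mem _ x.2 b⟩
        map_one' := Subtype.ext (by simp)
        map_mul' := fun x y => Subtype.ext (by simp [mul_assoc]) }
    have h := inverts_of_fixed_free φ (fun x => Subtype.ext (by
        show b * (b * (x : ↥(cent₀ K)) * b⁻¹) * b⁻¹ = (x : ↥(cent₀ K))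
        rw [hbi, show b * (b * (x : ↥(cent₀ K)) * b) * b = b * b * (x : ↥(cent₀ K)) * (b * b) by
          simp only [mul_assoc], hb, one_mul, mul_one]))
      (fun x hx => Subtype.ext (hfree x x.2 (by
        have h1 : b * (x : ↥(cent₀ K)) * b⁻¹ = (x : ↥(cent₀ K)) := congrArg Subtype.val hx
        exact mul_inv_eq_iff_eq_mul.1 h1))) ⟨g, hg⟩
    have h' : b * g * b⁻¹ = g⁻¹ := congrArg Subtype.val h
    rwa [hbi] at h'
  have hρ1 : (1 : F) * 1 = 1 := one_mul 1
  have hρm : (-1 : F) * -1 = 1 := by rw [neg_mul_neg, one_mul]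
  have hb2 : ∀ {ρ : F} (hρ : ρ * ρ = 1),
      (⟨_, hC.teeLike_cent₀ hρ⟩ : ↥(cent₀ K)) * ⟨_, hC.teeLike_cent₀ hρ⟩ = 1 := fun hρ =>
    Subtype.ext (hC.mono_sq (hC.teeLike_cent₀ hρ) (teeLike_mono h2 hρ))
  have hN1 : ∀ g ∈ N, g = 1 := fun g hg => by
    have ia := hinv a (Subtype.ext (eps_sq (by decide))) hfa g hg
    have ib := hinv _ (hb2 hρ1) (hfb 1 hρ1) g hg
    refine hfb (-1) hρm g hg ?_
    have hab : (⟨_, hC.teeLike_cent₀ hρm⟩ : ↥(cent₀ K)) = a * ⟨_, hC.teeLike_cent₀ hρ1⟩ :=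
      Subtype.ext (O_ext fun i => funext fun t => by
        show (teeLike (-1 : F) : O F 6).1 (e i) t = (eps 4 5 * teeLike (1 : F) : O F 6).1 (e i) t
        rw [mul_apply, eps_coord (by decide), teeLike_coord h2 hρm, teeLike_coord h2 hρ1]
        fin_cases t <;> simp)
    set b := (⟨_, hC.teeLike_cent₀ hρ1⟩ : ↥(cent₀ K))
    have haa : a * a = 1 := Subtype.ext (eps_sq (by decide))
    have hbb : b * b = 1 := hb2 hρ1
    rw [hab]
    calc a * b * g = a * (b * g * b) * b := by
          simp only [mul_assoc, hbb, mul_one]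
      _ = a * g⁻¹ * b := by rw [ib]
      _ = a * (a * g * a) * b := by rw [ia]
      _ = g * (a * b) := by simp only [← mul_assoc, haa, one_mul]
  have hall : ∀ g : ↥(cent₀ K), g ∈ T := fun g => by
    obtain ⟨⟨⟨x, hx⟩, ⟨y, hy⟩⟩, hxy, -⟩ := (hcompl.existsUnique g)
    have hxy' : x * y = g := hxy
    rw [← hxy', hN1 x hx, one_mul]
    exact hPT ▸ hy
  exact hC.six.mono_of_eps (hC.le hl) (show (4 : Fin 6) ≠ 5 by decide)
    (Subgroup.mem_subgroupOf.1 (hall ⟨_, hC.conj_cent₀ hl hlt hC.eps45_cent₀⟩))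

end CfsgLib.Geo.OFrame
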