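import Cfsg.Agent.Geo.FrameFive.Key

/-!
The orthogonal group of one coordinate fewer as the stabiliser of a frame vector, and the consequence
for six coordinates: an overgroup of the monomial part with a non-monomial element fixing a frame
vector is everything.
-/

set_option autoImplicit false
set_option linter.unusedSectionVars false

namespace CfsgLib.Geo.OFrame

open QuadraticMap CfsgLib.Forms CfsgLib.Quad Matrix

variable {F : Type*} [Field F] {n : ℕ}

/-- A vector from its entry at one place and the others. -/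
def upd (a : Fin (n + 1)) (t : F) (x : Fin n → F) : Fin (n + 1) → F :=
  Fin.insertNth (α := fun _ => F) a t x

@[simp]
theorem upd_same (a : Fin (n + 1)) (t : F) (x : Fin n → F) : upd a t x a = t :=
  Fin.insertNth_apply_same (α := fun _ => F) a t x

@[simp]
theorem upd_succAbove (a : Fin (n + 1)) (t : F) (x : Fin n → F) (j : Fin n) :
    upd a t x (a.succAbove j) = x j :=
  Fin.insertNth_apply_succAbove (α := fun _ => F) a t x j

/-- Extension by zero at one place. -/
def pad (a : Fin (n + 1)) (x : Fin n → F) : Fin (n + 1) → F := upd a 0 x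

theorem pad_same (a : Fin (n + 1)) (x : Fin n → F) : pad a x a = 0 := upd_same a 0 x

theorem pad_succAbove (a : Fin (n + 1)) (x : Fin n → F) (j : Fin n) : pad a x (a.succAbove j) = x j :=
  upd_succAbove a 0 x j

theorem pad_e (a : Fin (n + 1)) (j : Fin n) : pad a (e (F := F) j) = e (a.succAbove j) := by
  refine funext fun i => ?_
  rcases Fin.eq_self_or_eq_succAbove a i with rfl | ⟨k, rfl⟩
  · rw [pad_same, e_apply, if_neg (Fin.succAbove_ne i j).symm]
  · simp [pad_succAbove, e_apply]

theorem dot_pad (a : Fin (n + 1)) (v : Fin (n + 1) → F) (x : Fin n → F) :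
    v ⬝ᵥ pad a x = (v ∘ a.succAbove) ⬝ᵥ x := by
  simp [dotProduct, Fin.sum_univ_succAbove _ a, pad_same, pad_succAbove]

theorem pad_dot_pad (a : Fin (n + 1)) (x y : Fin n → F) : pad a x ⬝ᵥ pad a y = x ⬝ᵥ y := by
  rw [dot_pad, show pad a x ∘ a.succAbove = x from funext (pad_succAbove a x)]

theorem pad_eq_of_zero (a : Fin (n + 1)) {v : Fin (n + 1) → F} (h : v a = 0) :
    pad a (v ∘ a.succAbove) = v := by
  refine funext fun i => ?_
  rcases Fin.eq_self_or_eq_succAbove a i with rfl | ⟨k, rfl⟩
  · rw [pad_same, h]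
  · rw [pad_succAbove]; rfl

theorem ext_upd (a : Fin (n + 1)) {u v : Fin (n + 1) → F} (h1 : u a = v a)
    (h2 : ∀ j, u (a.succAbove j) = v (a.succAbove j)) : u = v :=
  funext fun i => (Fin.eq_self_or_eq_succAbove a i).elim (fun h => h ▸ h1) fun ⟨k, h⟩ => h ▸ h2 k

/-- The extension of a linear equivalence fixing one frame vector. -/
def embLin (a : Fin (n + 1)) (g : (Fin n → F) ≃ₗ[F] (Fin n → F)) :
    (Fin (n + 1) → F) ≃ₗ[F] (Fin (n + 1) → F) where
  toFun v := upd a (v a) (g (v ∘ a.succAbove))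
  map_add' u v := ext_upd a (by simp) fun j => by
    simp only [upd_succAbove, Pi.add_apply]
    rw [show (u + v) ∘ a.succAbove = u ∘ a.succAbove + v ∘ a.succAbove from rfl, map_add]
    rfl
  map_smul' c v := ext_upd a (by simp) fun j => by
    simp only [upd_succAbove, Pi.smul_apply, RingHom.id_apply]
    rw [show (c • v) ∘ a.succAbove = c • (v ∘ a.succAbove) from rfl, map_smul]
    rfl
  invFun v := upd a (v a) (g.symm (v ∘ a.succAbove))
  left_inv v := ext_upd a (by simp) fun j => by simp [Function.comp_def]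
  right_inv v := ext_upd a (by simp) fun j => by simp [Function.comp_def]

theorem embLin_apply (a : Fin (n + 1)) (g : (Fin n → F) ≃ₗ[F] (Fin n → F)) (v : Fin (n + 1) → F) :
    embLin a g v = upd a (v a) (g (v ∘ a.succAbove)) := rfl

/-- The embedding fixing a frame vector. -/
def emb (a : Fin (n + 1)) : O F n →* O F (n + 1) where
  toFun g := ⟨embLin a g.1, fun v => by
    rw [Q0_apply, Q0_apply, embLin_apply]
    have h := self_map g (v ∘ a.succAbove)
    simp only [dotProduct, Function.comp_apply, Fin.sum_univ_succAbove _ a, upd_same,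
      upd_succAbove] at h ⊢
    rw [h]⟩
  map_one' := O_ext fun i => ext_upd a (by simp [embLin_apply, one_apply]) fun j => by
    simp [embLin_apply, one_apply]
  map_mul' g h := O_ext fun i => ext_upd a (by simp [embLin_apply, mul_apply]) fun j => by
    simp [embLin_apply, mul_apply, Function.comp_def]

theorem emb_apply (a : Fin (n + 1)) (g : O F n) (v : Fin (n + 1) → F) :
    (emb a g).1 v = upd a (v a) (g.1 (v ∘ a.succAbove)) := rfl

theorem emb_pad (a : Fin (n + 1)) (g : O F n) (x : Fin n → F) :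
    (emb a g).1 (pad a x) = pad a (g.1 x) := by
  rw [emb_apply, pad_same, show pad a x ∘ a.succAbove = x from funext (pad_succAbove a x)]
  rfl

theorem emb_fix (a : Fin (n + 1)) (g : O F n) : (emb a g).1 (e a) = e a := by
  rw [emb_apply, show e (F := F) a ∘ a.succAbove = 0 from funext fun j => by simp [e_apply],
    map_zero, e_apply, if_pos rfl]
  refine funext fun i => ?_
  rcases Fin.eq_self_or_eq_succAbove a i with rfl | ⟨k, rfl⟩
  · simp [e_apply]
  · simp [e_apply]

theorem emb_eq_of {a : Fin (n + 1)} {g : O F (n + 1)} {g' : O F n} (h2 : g.1 (e a) = e a)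
    (h : ∀ j, g.1 (e (a.succAbove j)) = pad a (g'.1 (e j))) : emb a g' = g := by
  refine O_ext fun i => ?_
  rcases Fin.eq_self_or_eq_succAbove a i with rfl | ⟨k, rfl⟩
  · rw [emb_fix, h2]
  · rw [h, ← emb_pad, pad_e]

/-- Every element fixing the frame vector comes from below. -/
theorem exists_emb (h2 : (2 : F) ≠ 0) {a : Fin (n + 1)} {g : O F (n + 1)} (hg : g.1 (e a) = e a) :
    ∃ g', emb a g' = g := by
  have hzero : ∀ (k : O F (n + 1)), k.1 (e a) = e a → ∀ x : Fin n → F, k.1 (pad a x) a = 0 := fun k hk x => by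
    have h := dot_map k h2 (pad a x) (e a)
    rw [hk, dot_e, dot_e, pad_same] at h
    exact h
  have hg' : (g⁻¹).1 (e a) = e a := by
    conv_lhs => rw [← hg, ← mul_apply, inv_mul_cancel, one_apply]
  have hres : ∀ (k l : O F (n + 1)), l * k = 1 → k.1 (e a) = e a → ∀ x,
      (l.1 (pad a (fun j => k.1 (pad a x) (a.succAbove j))) : Fin (n + 1) → F) ∘ a.succAbove = x :=
    fun k l hlk hk x => by
      rw [show pad a (fun j => k.1 (pad a x) (a.succAbove j)) = k.1 (pad a x) from
        pad_eq_of_zero a (hzero k hk x), ← mul_apply, hlk, one_apply]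
      exact funext (pad_succAbove a x)
  have hadd : ∀ x y : Fin n → F, pad a (x + y) = pad a x + pad a y := fun x y => by
    refine funext fun i => ?_
    rcases Fin.eq_self_or_eq_succAbove a i with rfl | ⟨k, rfl⟩ <;> simp [pad_same, pad_succAbove]
  have hsmul : ∀ (c : F) (x : Fin n → F), pad a (c • x) = c • pad a x := fun c x => by
    refine funext fun i => ?_
    rcases Fin.eq_self_or_eq_succAbove a i with rfl | ⟨k, rfl⟩ <;> simp [pad_same, pad_succAbove]
  refine ⟨⟨{ toFun := fun x => (g.1 (pad a x)) ∘ a.succAbove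
             map_add' := fun x y => by rw [hadd, map_add]; rfl
             map_smul' := fun c x => by rw [hsmul, map_smul]; rfl
             invFun := fun x => ((g⁻¹).1 (pad a x)) ∘ a.succAbove
             left_inv := hres g g⁻¹ (inv_mul_cancel g) hg
             right_inv := hres g⁻¹ g (mul_inv_cancel g) hg' }, fun x => ?_⟩, emb_eq_of hg fun j => ?_⟩
  · rw [Q0_apply, Q0_apply]
    change ((g.1 (pad a x)) ∘ a.succAbove) ⬝ᵥ ((g.1 (pad a x)) ∘ a.succAbove) = _
    rw [← pad_dot_pad a, pad_eq_of_zero a (hzero g hg x), self_map, pad_dot_pad]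
  · rw [← pad_e a j]
    exact (pad_eq_of_zero a (hzero g hg _)).symm

theorem emb_R (a : Fin (n + 1)) (w : Fin n → F) : emb a (R w) = R (pad a w) := by
  refine O_ext fun i => ?_
  rcases Fin.eq_self_or_eq_succAbove a i with rfl | ⟨k, rfl⟩
  · rw [emb_fix, R_fix]
    rw [e_dot, pad_same]
  · rw [← pad_e, emb_pad, R_apply, R_apply, pad_dot_pad, pad_dot_pad]
    refine funext fun t => ?_
    rcases Fin.eq_self_or_eq_succAbove a t with rfl | ⟨j, rfl⟩ <;> simp [pad_same, pad_succAbove]

variable [Finite F]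

theorem emb_mem_iff (h2 : (2 : F) ≠ 0) (a : Fin (n + 1)) (g : O F n) :
    emb a g ∈ commutator (O F (n + 1)) ↔ g ∈ commutator (O F n) := by
  obtain ⟨vs, hvs, rfl⟩ := exists_reflProd (nondeg (F := F) (n := n) h2) (hgen h2) g
  have hmap : emb a (reflProd (Q0 F n) vs) = reflProd (Q0 F (n + 1)) (vs.map (pad a)) := by
    unfold reflProd
    rw [map_list_prod, List.map_map, List.map_map]
    congr 1
    exact List.map_congr_left fun v _ => emb_R a v
  have hval : ∀ v, Q0 F (n + 1) (pad a v) = Q0 F n v := fun v => by rw [Q0_apply, Q0_apply, pad_dot_pad]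
  rw [hmap, reflProd_mem_commutator_iff (nondeg h2) (hgen h2)
      (fun v hv => by obtain ⟨w, hw, rfl⟩ := List.mem_map.1 hv; rw [hval]; exact hvs w hw),
    reflProd_mem_commutator_iff (nondeg h2) (hgen h2) hvs, List.length_map, List.map_map]
  simp only [Function.comp_def, hval]

variable [DecidableEq F]

theorem mono_emb_iff (a : Fin (n + 1)) (g : O F n) : Mono (emb a g) ↔ Mono g := by
  have h : ∀ j, (supp ((emb a g).1 (e (a.succAbove j)))).card = (supp (g.1 (e j))).card := fun j => by
    rw [← pad_e, emb_pad, ← Finset.card_map ⟨a.succAbove, Fin.succAbove_right_injective⟩]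
    congr 1
    ext i
    rcases Fin.eq_self_or_eq_succAbove a i with rfl | ⟨k, rfl⟩
    · simp [mem_supp, pad_same]
    · simp [mem_supp, pad_succAbove]
  refine ⟨fun hm j => (h j).symm.trans_le (hm _), fun hm i => ?_⟩
  rcases Fin.eq_self_or_eq_succAbove a i with rfl | ⟨k, rfl⟩
  · rw [emb_fix, supp_e, Finset.card_singleton]
  · exact (h k).trans_le (hm k)

section six

variable {H : Subgroup (O F 6)} (p : ℕ) [Fact p.Prime] [CharP F p]

/-- A non-monomial element fixing a frame vector gives all unit vectors with a zero there. -/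
theorem Over.inV_of_zero (hcard : Nat.card F = p) (hH : Over H) {g : O F 6} (hg : g ∈ H)
    {a : Fin 6} (hga : g.1 (e a) = e a) (hgm : ¬ Mono g) :
    (∀ g' : O F 5, g' ∈ commutator (O F 5) → emb a g' ∈ H) ∧
      ∀ w : Fin 6 → F, w ⬝ᵥ w = 1 → w a = 0 → InV H w := by
  obtain ⟨g', rfl⟩ := exists_emb hH.two hga
  have h5 : Over (H.comap (emb a)) := ⟨hH.two, fun x hx => (emb_mem_iff hH.two a x).1 (hH.le hx),
    fun x hx hm => hH.mon _ ((emb_mem_iff hH.two a x).2 hx) ((mono_emb_iff a x).2 hm)⟩
  have htop := frame_key_five p hcard h5 hg (fun hm => hgm ((mono_emb_iff a g').2 hm))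
  refine ⟨fun x hx => (htop.ge hx : _), fun w hw hwa => ?_⟩
  obtain ⟨j, hj⟩ : ∃ j : Fin 6, j ≠ a := exists_ne a
  obtain ⟨k, rfl⟩ := Fin.exists_succAbove_eq hj
  refine hH.inV_of_rel (a := a.succAbove k) hw ?_
  have hw5 : (w ∘ a.succAbove) ⬝ᵥ (w ∘ a.succAbove) = 1 := by
    rw [← pad_dot_pad a, pad_eq_of_zero a hwa, hw]
  have hmem : R (w ∘ a.succAbove) * R (e k) ∈ H.comap (emb a) := htop.ge
    ((pair_mem_iff hH.two (by rw [hw5]; exact one_ne_zero) (by rw [ee]; exact one_ne_zero)).2
      (by rw [hw5, ee]; simp))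
  rw [Subgroup.mem_comap, map_mul, emb_R, emb_R, pad_eq_of_zero a hwa, pad_e] at hmem
  exact hmem

/-- A non-monomial element fixing a frame vector gives everything. -/
theorem Over.eq_top_of_fix (hcard : Nat.card F = p) (hH : Over H) {g : O F 6} (hg : g ∈ H)
    {a : Fin 6} (hga : g.1 (e a) = e a) (hgm : ¬ Mono g) : H = commutator (O F 6) := by
  have h2 := hH.two
  obtain ⟨hall5, hinv⟩ := hH.inV_of_zero p hcard hg hga hgm
  have hz : ∀ w : Fin 6 → F, w ⬝ᵥ w = 1 → ∀ i, w i = 0 → InV H w := fun w hw i hi => by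
    obtain ⟨σ, hσ, hai, hia, -⟩ := hH.permutes_to (x := a) (y := i) ∅ (by simp) (by simp) (by simp)
    have hσσ : (fun t => (fun t => w (σ.symm t)) (σ t)) = w := funext fun t => by simp
    have key := hH.inV_perm hσ (v := fun t => w (σ.symm t)) (hinv _ ?_ ?_)
    · rwa [hσσ] at key
    · simp only [dotProduct]
      rw [← Equiv.sum_comp σ fun t => w (σ.symm t) * w (σ.symm t)]
      simpa [dotProduct] using hw
    · show w (σ.symm a) = 0
      rw [show σ.symm a = i from σ.symm_apply_eq.2 hia.symm, hi]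
  refine hH.eq_commutator_of_units_five (by omega) fun w hw => ?_
  by_cases hzero : ∃ i, w i = 0
  · obtain ⟨i, hi⟩ := hzero; exact hz w hw i hi
  push Not at hzero
  have hp : p.Prime := Fact.out
  have h3 : (3 : F) ≠ 0 := by
    intro h3
    have h3' : ((3 : ℕ) : F) = 0 := by exact_mod_cast h3
    rw [CharP.cast_eq_zero_iff F p] at h3'
    obtain rfl : p = 3 := (Nat.prime_three.eq_one_or_self_of_dvd _ h3').resolve_left hp.one_lt.ne'
    have hsq : ∀ i, w i * w i = 1 := fun i => by
      rcases three_cases hcard (w i) with h | h | h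
      · exact absurd h (hzero i)
      · rw [h, one_mul]
      · rw [h]; linear_combination (0 : F) * h3
    rw [dotProduct, Finset.sum_congr rfl fun i _ => hsq i] at hw
    simp at hw
    exact one_ne_zero (show (1 : F) = 0 by linear_combination (2 : F) * h3 - hw)
  obtain ⟨i, j, k, hij, hik, hjk, hs⟩ : ∃ i j k : Fin 6, i ≠ j ∧ i ≠ k ∧ j ≠ k ∧
      w i * w i + w j * w j + w k * w k ≠ 0 := by
    by_contra hall
    push Not at hall
    have e1 := hall 0 1 2 (by decide) (by decide) (by decide)
    have e2 := hall 0 1 3 (by decide) (by decide) (by decide)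
    have e3 := hall 0 2 3 (by decide) (by decide) (by decide)
    have e4 := hall 1 2 3 (by decide) (by decide) (by decide)
    have h0 : (3 : F) * (w 0 * w 0) = 0 := by linear_combination e1 + e2 + e3 - 2 * e4
    exact hzero 0 (mul_self_eq_zero.1 ((mul_eq_zero.1 h0).resolve_left h3))
  set s := w i * w i + w j * w j + w k * w k with hsdef
  obtain ⟨y, z, hyz⟩ := exists_binary (β := (1 : F)) (N := s) one_ne_zero h2
  rw [one_mul] at hyz
  obtain ⟨y', z', hyz', hdiff⟩ : ∃ y' z', y' * y' + z' * z' = s ∧ w j * y' + w k * z' ≠ s := by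
    by_contra hall
    push Not at hall
    have e1 := hall y z hyz
    have e2 := hall (-y) (-z) (by linear_combination hyz)
    exact hs ((mul_eq_zero.1 (show (2 : F) * s = 0 by linear_combination (-1 : F) * e1 - e2)).resolve_left h2)
  set d := w i • e (F := F) i + (w j - y') • e (F := F) j + (w k - z') • e (F := F) k with hd
  have hdd : d ⬝ᵥ d = 2 * (s - (w j * y' + w k * z')) := by
    rw [hd, dot_three hij hik hjk]; linear_combination hyz'
  have hdne : d ⬝ᵥ d ≠ 0 := by rw [hdd]; exact mul_ne_zero h2 (sub_ne_zero.2 (Ne.symm hdiff))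
  have hwd : w ⬝ᵥ d = s - (w j * y' + w k * z') := by
    simp [hd, dotProduct_add, dotProduct_smul, dot_e]; ring
  set u := (R d).1 w with hu
  have hucoord : ∀ t, u t = w t - d t := fun t => by
    rw [hu, R_apply, hwd, hdd, div_self (mul_ne_zero h2 (sub_ne_zero.2 (Ne.symm hdiff))), one_smul,
      Pi.sub_apply]
  obtain ⟨r, t, hrt⟩ := exists_binary (β := (1 : F)) (N := d ⬝ᵥ d) one_ne_zero h2
  rw [one_mul] at hrt
  set zz := r • e (F := F) j + t • e k with hzz
  have hzn : zz ⬝ᵥ zz = d ⬝ᵥ d := by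
    rw [← hrt, hzz]
    simp [add_dotProduct, dotProduct_add, smul_dotProduct, dotProduct_smul, ee, ee_ne hjk, ee_ne hjk.symm]
  obtain ⟨b, hbi, hbj, hbk⟩ : ∃ b, b ≠ i ∧ b ≠ j ∧ b ≠ k :=
    (by decide : ∀ i j k : Fin 6, ∃ b, b ≠ i ∧ b ≠ j ∧ b ≠ k) i j k
  have hdb : d b = 0 := by simp [hd, e_apply, hbi, hbj, hbk]
  have hzb : zz b = 0 := by simp [hzz, e_apply, hbj, hbk]
  have hk : R zz * R d ∈ H := by
    obtain ⟨σ, hσ, hab, hba, -⟩ := hH.permutes_to (x := b) (y := a) ∅ (by simp) (by simp) (by simp)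
    obtain ⟨m, hm, -, hmv⟩ := hσ
    set x1 := m.1 zz with hx1
    set x2 := m.1 d with hx2
    have h1 : x1 a = 0 := by rw [hx1, hmv, hba, hzb]
    have h2' : x2 a = 0 := by rw [hx2, hmv, hba, hdb]
    have hn1 : (x1 ∘ a.succAbove) ⬝ᵥ (x1 ∘ a.succAbove) = d ⬝ᵥ d := by
      rw [← pad_dot_pad a, pad_eq_of_zero a h1, hx1, self_map, hzn]
    have hn2 : (x2 ∘ a.succAbove) ⬝ᵥ (x2 ∘ a.succAbove) = d ⬝ᵥ d := by
      rw [← pad_dot_pad a, pad_eq_of_zero a h2', hx2, self_map]
    have h := hall5 _ ((pair_mem_iff h2 (by rw [hn1]; exact hdne) (by rw [hn2]; exact hdne)).2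
      (by rw [hn1, hn2]; exact IsSquare.mul_self _))
    rw [map_mul, emb_R, emb_R, pad_eq_of_zero a h1, pad_eq_of_zero a h2', hx1, hx2, ← R_conj,
      ← R_conj] at h
    have := mul_mem (mul_mem (inv_mem hm) h) hm
    convert this using 1
    group
  set u' := (R zz).1 u with hu'
  have hu'i : u' i = 0 := by
    have hzi : zz i = 0 := by simp [hzz, e_apply, hij, hik]
    have hui : u i = 0 := by rw [hucoord]; simp [hd, e_apply, hij, hik]
    rw [hu', R_apply, Pi.sub_apply, Pi.smul_apply, hzi, hui]; simp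
  have hu'w : u' = (R zz * R d).1 w := rfl
  have hu'V : InV H u' := hz u' (by rw [hu'w, self_map, hw]) i hu'i
  have hfix : (R zz * R d).1 (e b) = e b := by
    rw [mul_apply, R_fix (show e b ⬝ᵥ d = 0 by rw [e_dot]; exact hdb), R_fix (show e b ⬝ᵥ zz = 0 by rw [e_dot]; exact hzb)]
  have h := (hu'V.2 b).map (inv_mem hk)
  rw [hu'w, ← mul_apply, inv_mul_cancel, one_apply] at h
  rw [show ((R zz * R d)⁻¹ : O F 6).1 (e b) = e b by
    conv_lhs => rw [← hfix, ← mul_apply, inv_mul_cancel, one_apply]] at h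
  exact hH.inV_of_rel hw h

end six

end CfsgLib.Geo.OFrame
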