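import Cfsg.Agent.Geo.FrameSix.Fusion
import Mathlib.GroupTheory.GroupAction.Quotient
import Mathlib.GroupTheory.Perm.Cycle.Type

/-!
The part of the overgroup inducing even permutations.
-/

set_option autoImplicit false
set_option linter.unusedSectionVars false

namespace CfsgLib.Geo.OFrame

open QuadraticMap CfsgLib.Forms CfsgLib.Quad Matrix

variable {F : Type*} [Field F] [Finite F] [DecidableEq F]

/-- A monomial element with an even permutation. -/
def EvenMono (g : O F 6) : Prop :=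
  ∃ π : Equiv.Perm (Fin 6), ∃ s : Fin 6 → F, Equiv.Perm.sign π = 1 ∧ (∀ a, s a * s a = 1) ∧
    ∀ a, g.1 (e a) = s a • e (π a)

theorem perm_unique {g : O F 6} {π ρ : Equiv.Perm (Fin 6)} {s t : Fin 6 → F} (hs : ∀ a, s a * s a = 1)
    (hg : ∀ a, g.1 (e a) = s a • e (π a)) (hg' : ∀ a, g.1 (e a) = t a • e (ρ a)) : π = ρ := by
  refine Equiv.ext fun a => ?_
  have h := congrFun ((hg a).symm.trans (hg' a)) (π a)
  rw [Pi.smul_apply, Pi.smul_apply, e_apply, e_apply, if_pos rfl, smul_eq_mul, smul_eq_mul, mul_one] at h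
  by_contra hne
  rw [if_neg hne, mul_zero] at h
  simpa [h] using hs a

theorem mono_of_data {g : O F 6} {π : Equiv.Perm (Fin 6)} {s : Fin 6 → F} (hs : ∀ a, s a * s a = 1)
    (hg : ∀ a, g.1 (e a) = s a • e (π a)) : Mono g := fun a => by
  rw [hg, supp_smul (fun h => by simpa [h] using hs a), supp_e, Finset.card_singleton]

theorem EvenMono.mono {g : O F 6} (h : EvenMono g) : Mono g := by
  obtain ⟨π, s, -, hs, hg⟩ := h
  exact mono_of_data hs hg

theorem EvenMono.sign {g : O F 6} (h : EvenMono g) {ρ : Equiv.Perm (Fin 6)} {t : Fin 6 → F}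
    (hg : ∀ a, g.1 (e a) = t a • e (ρ a)) : Equiv.Perm.sign ρ = 1 := by
  obtain ⟨π, s, hπ, hs, hg'⟩ := h
  rw [← perm_unique hs hg' hg, hπ]

theorem data_one : ∀ a, (1 : O F 6).1 (e a) = (fun _ => (1 : F)) a • e ((1 : Equiv.Perm (Fin 6)) a) :=
  fun a => by simp [one_apply]

theorem data_mul {g h : O F 6} {π ρ : Equiv.Perm (Fin 6)} {s t : Fin 6 → F}
    (hg : ∀ a, g.1 (e a) = s a • e (π a)) (hh : ∀ a, h.1 (e a) = t a • e (ρ a)) :
    ∀ a, (g * h).1 (e a) = (fun a => t a * s (ρ a)) a • e ((π * ρ) a) := fun a => by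
  rw [mul_apply, hh, map_smul, hg, smul_smul]; rfl

theorem data_inv {g : O F 6} {π : Equiv.Perm (Fin 6)} {s : Fin 6 → F} (hs : ∀ a, s a * s a = 1)
    (hg : ∀ a, g.1 (e a) = s a • e (π a)) :
    ∀ a, (g⁻¹).1 (e a) = (fun a => s (π⁻¹ a)) a • e (π⁻¹ a) := fun a => by
  have h := congrArg ((g⁻¹).1) (hg (π⁻¹ a))
  rw [← mul_apply, inv_mul_cancel, one_apply, map_smul, Equiv.Perm.coe_inv, Equiv.apply_symm_apply] at h
  calc (g⁻¹).1 (e a) = (s (π.symm a) * s (π.symm a)) • (g⁻¹).1 (e a) := by rw [hs, one_smul]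
    _ = _ := by rw [mul_smul, ← h]; rfl

/-- The even monomial elements. -/
def evenSub (F : Type*) [Field F] [Finite F] [DecidableEq F] : Subgroup (O F 6) where
  carrier := {g | EvenMono g}
  one_mem' := ⟨1, _, map_one _, fun _ => one_mul 1, data_one⟩
  mul_mem' := by
    rintro g h ⟨π, s, hπ, hs, hg⟩ ⟨ρ, t, hρ, ht, hh⟩
    exact ⟨π * ρ, _, by rw [map_mul, hπ, hρ, one_mul],
      fun a => by linear_combination (t a * t a) * hs (ρ a) + ht a, data_mul hg hh⟩
  inv_mem' := by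
    rintro g ⟨π, s, hπ, hs, hg⟩
    exact ⟨π⁻¹, _, by rw [map_inv, hπ, inv_one], fun a => hs _, data_inv hs hg⟩

theorem evenMono_eps {a b : Fin 6} (hab : a ≠ b) : EvenMono (eps (F := F) a b) := by
  refine ⟨1, fun c => if c = a ∨ c = b then -1 else 1, map_one _, fun c => by dsimp only; split_ifs <;> ring, fun c => ?_⟩
  rw [eps_apply_e hab, Equiv.Perm.one_apply]
  split_ifs with h <;> simp [h]

theorem evenMono_neg6 : EvenMono (neg6 : O F 6) :=
  ⟨1, fun _ => -1, map_one _, fun _ => by ring, fun c => by simp [neg6_apply]⟩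

theorem evenMono_tee (h2 : (2 : F) ≠ 0) : EvenMono (tee : O F 6) := by
  refine ⟨Equiv.swap 0 1 * Equiv.swap 2 3, fun _ => 1, ?_, fun _ => one_mul 1, fun c => funext fun t => ?_⟩
  · rw [map_mul, Equiv.Perm.sign_swap (by decide), Equiv.Perm.sign_swap (by decide)]; rfl
  · rw [tee_coord h2]
    fin_cases c <;> fin_cases t <;> simp [e_apply, Equiv.swap_apply_def]

/-- The signs of the standard odd involution. -/
def uuSign : Fin 6 → F := ![1, 1, -1, 1, 1, 1]

theorem data_uu (h2 : (2 : F) ≠ 0) :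
    ∀ a, (uu : O F 6).1 (e a) = uuSign (F := F) a • e (Equiv.swap (0 : Fin 6) 1 a) := fun a =>
  funext fun t => by
    rw [uu_coord h2]
    fin_cases a <;> fin_cases t <;> simp [uuSign, e_apply, Equiv.swap_apply_def]

variable {H : Subgroup (O F 6)}

/-- The signs of an even monomial element of the overgroup. -/
theorem Over.sign_prod (hH : Over H) {g : O F 6} (hg : g ∈ H) {π : Equiv.Perm (Fin 6)} {s : Fin 6 → F}
    (hπ : Equiv.Perm.sign π = 1) (hs : ∀ a, s a * s a = 1) (hgs : ∀ a, g.1 (e a) = s a • e (π a)) :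
    ∏ a, s a = 1 := by
  obtain ⟨m, hm, -, hmv⟩ := hH.exists_mono π hπ (fun _ => 1) (fun _ => one_mul 1) (by simp)
  have hd : ∀ a, (m⁻¹ * g).1 (e a) = s a • e a := fun a => by
    rw [mul_apply, hgs, map_smul, show e (π a) = m.1 (e a) by rw [hmv, one_smul], ← mul_apply m⁻¹ m,
      inv_mul_cancel, one_apply]
  obtain ⟨T, hTm, hT⟩ := exists_signs (g := m⁻¹ * g) fun a => by
    rcases mul_self_eq_one_iff.1 (hs a) with h | h
    · exact Or.inl (by rw [hd, h, one_smul])
    · exact Or.inr (by rw [hd, h, neg_one_smul])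
  have hev := hH.signs_even (hH.le (mul_mem (inv_mem hm) hg)) hT
  have hsT : ∀ a, s a = if a ∈ T then -1 else 1 := fun a => by
    have h1 := hT (e a) a
    rw [hd] at h1
    simp [e_apply] at h1
    rw [h1]
  rw [Finset.prod_congr rfl fun a _ => hsT a, Finset.prod_ite, Finset.prod_const, Finset.prod_const,
    one_pow, mul_one, Finset.filter_mem_eq_inter, Finset.univ_inter, hev.neg_one_pow]

theorem Over.evenMono_mem (hH : Over H) {g : O F 6} (hg : EvenMono g) (hc : g ∈ commutator (O F 6)) :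
    g ∈ H := hH.mon g hc hg.mono

/-- An overgroup with an odd monomial element contains the standard one. -/
theorem Over.uu_mem (hH : Over H) {g : O F 6} (hg : g ∈ H) {π : Equiv.Perm (Fin 6)} {s : Fin 6 → F}
    (hπ : Equiv.Perm.sign π = -1) (hs : ∀ a, s a * s a = 1) (hgs : ∀ a, g.1 (e a) = s a • e (π a)) :
    (uu : O F 6) ∈ H := by
  have hρ : Equiv.Perm.sign (Equiv.swap (0 : Fin 6) 1 * π⁻¹) = 1 := by
    rw [map_mul, map_inv, hπ, Equiv.Perm.sign_swap (by decide)]; rfl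
  set r : Fin 6 → F := fun a => uuSign (F := F) (π⁻¹ a) * s (π⁻¹ a) with hr
  have hr1 : ∀ a, r a * r a = 1 := fun a => by
    have h1 : ∀ i : Fin 6, (uuSign (F := F)) i * uuSign (F := F) i = 1 := fun i => by
      fin_cases i <;> simp [uuSign]
    simp only [hr]
    linear_combination (s (π⁻¹ a) * s (π⁻¹ a)) * h1 (π⁻¹ a) + hs (π⁻¹ a)
  have hrprod : ∏ a, r a = 1 ∨ ∏ a, r a = -1 := by
    refine mul_self_eq_one_iff.1 ?_
    rw [← Finset.prod_mul_distrib, Finset.prod_congr rfl fun a _ => hr1 a, Finset.prod_const_one]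
  rcases hrprod with hp | hp
  · obtain ⟨m, hm, -, hmv⟩ := hH.exists_mono _ hρ r hr1 hp
    convert mul_mem hm hg using 1
    refine O_ext fun a => ?_
    have hv : s a * r (π a) = (uuSign (F := F)) a := by
      simp only [hr, Equiv.Perm.coe_inv, Equiv.symm_apply_apply]
      linear_combination (uuSign (F := F) a) * hs a
    rw [mul_apply, hgs, map_smul, hmv, data_uu hH.two, smul_smul, hv, Equiv.Perm.mul_apply,
      Equiv.Perm.coe_inv, Equiv.symm_apply_apply]
  · exfalso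
    set r' : Fin 6 → F := fun a => (if π⁻¹ a = 2 then -1 else 1) * r a with hr'
    have hr1' : ∀ a, r' a * r' a = 1 := fun a => by
      simp only [hr']; split_ifs <;> linear_combination hr1 a
    have hp' : ∏ a, r' a = 1 := by
      have h1 : (∏ a, if π⁻¹ a = (2 : Fin 6) then (-1 : F) else 1) = -1 := by
        rw [Finset.prod_eq_single (π 2)]
        · simp
        · intro b _ hb
          rw [if_neg fun h => hb (by rw [← h]; simp)]
        · simp
      simp only [hr']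
      rw [Finset.prod_mul_distrib, hp, h1, neg_mul_neg, one_mul]
    obtain ⟨m, hm, -, hmv⟩ := hH.exists_mono _ hρ r' hr1' hp'
    refine single_not_mem hH.two (x := rt (0 : Fin 6) 1)
      (by rw [rt, (root_norm hH.two (by decide) (by ring)).1]; exact hH.two) (hH.le ?_)
    convert mul_mem hm hg using 1
    refine O_ext fun a => funext fun t => ?_
    rw [mul_apply, hgs, map_smul, hmv, rt_coord hH.two (by decide), smul_smul, hr']
    simp only [hr, Equiv.Perm.coe_inv, Equiv.symm_apply_apply, Equiv.Perm.mul_apply, Pi.smul_apply,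
      smul_eq_mul, e_apply]
    rw [if_congr Equiv.swap_apply_eq_iff rfl rfl]
    by_cases ht : t = Equiv.swap (0 : Fin 6) 1 a
    · rw [if_pos ht, mul_one]
      have h1 : (if a = (2 : Fin 6) then (-1 : F) else 1) * uuSign (F := F) a = 1 := by
        fin_cases a <;> simp [uuSign]
      linear_combination (-(s a) * s a) * h1 - hs a
    · rw [if_neg ht, mul_zero]

/-- The even part of an overgroup, a normal subgroup. -/
structure Core (H K : Subgroup (O F 6)) : Prop where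
  six : Six H
  le : K ≤ H
  conj : ∀ g ∈ H, ∀ k ∈ K, g * k * g⁻¹ ∈ K
  mem : ∀ g ∈ H, EvenMono g → g ∈ K
  even : ∀ g ∈ K, Mono g → EvenMono g

theorem card_modEq_fixed {α : Type*} [Finite α] (σ : Equiv.Perm α) (h : σ * σ = 1) :
    Nat.card α ≡ Nat.card {a // σ a = a} [MOD 2] := by
  classical
  have := Fintype.ofFinite α
  have : Fact (Nat.Prime 2) := ⟨Nat.prime_two⟩
  have h1 : Fintype.card α ≡ Fintype.card (Function.fixedPoints σ) [MOD 2] := by
    have := Equiv.Perm.card_fixedPoints_modEq (f := (σ : α → α)) (p := 2) (n := 1)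
      (by rw [pow_one]; exact funext fun a => DFunLike.congr_fun h a)
    exact this
  rw [Nat.card_eq_fintype_card, Nat.card_eq_fintype_card]
  refine h1.trans ?_
  rw [show Fintype.card (Function.fixedPoints σ) = Fintype.card {a // σ a = a} from
    Fintype.card_congr (Equiv.refl _)]

theorem odd_of_one_fixed {α : Type*} [Finite α] (σ : Equiv.Perm α) (h : σ * σ = 1) (a : α) (ha : σ a = a)
    (hu : ∀ b, σ b = b → b = a) : Odd (Nat.card α) := by
  have h1 := card_modEq_fixed σ h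
  have hc : Nat.card {b // σ b = b} = 1 := Nat.card_eq_one_iff_unique.2
    ⟨⟨fun x y => Subtype.ext ((hu x x.2).trans (hu y y.2).symm)⟩, ⟨⟨a, ha⟩⟩⟩
  rw [hc] at h1
  exact Nat.odd_iff.2 h1

theorem even_of_no_fixed {α : Type*} [Finite α] (σ : Equiv.Perm α) (h : σ * σ = 1)
    (hu : ∀ b, σ b ≠ b) : Even (Nat.card α) := by
  have h1 := card_modEq_fixed σ h
  have : IsEmpty {a // σ a = a} := ⟨fun x => hu x x.2⟩
  have hc : Nat.card {a // σ a = a} = 0 := Nat.card_of_isEmpty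
  rw [hc] at h1
  exact Nat.even_iff.2 h1

/-- A monomial involution commutes with the negation of a coordinate plane. -/
theorem exists_eps_comm {z : O F 6} (hz : Mono z) (hz2 : z * z = 1) :
    ∃ a b, a ≠ b ∧ eps a b * z = z * eps a b := by
  obtain ⟨π, s, hs, hπ⟩ := hz.exists_perm
  have hsq : ∀ i, π (π i) = i := fun i => by
    have h := perm_unique (fun a => show s a * s (π a) * (s a * s (π a)) = 1 by
      linear_combination (s (π a) * s (π a)) * hs a + hs (π a)) (data_mul hπ hπ)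
      (fun a => (show (z * z).1 (e a) = (1 : F) • e ((1 : Equiv.Perm (Fin 6)) a) by
        rw [hz2, one_apply, one_smul, Equiv.Perm.one_apply]))
    exact DFunLike.congr_fun h i
  obtain ⟨a, b, hab, hset⟩ : ∃ a b, a ≠ b ∧ ∀ i, (i = a ∨ i = b) ↔ (π i = a ∨ π i = b) := by
    by_cases h : ∃ a, π a ≠ a
    · obtain ⟨a, ha⟩ := h
      refine ⟨a, π a, ha.symm, fun i => ⟨?_, ?_⟩⟩
      · rintro (rfl | rfl)
        · exact Or.inr rfl
        · exact Or.inl (hsq a)
      · rintro (h' | h')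
        · exact Or.inr (by rw [← h', hsq])
        · exact Or.inl (π.injective h')
    · push Not at h
      exact ⟨0, 1, by decide, fun i => by rw [h]⟩
  refine ⟨a, b, hab, O_ext fun i => ?_⟩
  rw [mul_apply, mul_apply, hπ, map_smul, eps_apply_e hab, eps_apply_e hab, if_congr (hset i).symm rfl rfl]
  split_ifs
  · rw [map_neg, hπ, smul_neg]
  · rw [hπ]

section transfer

variable (H)

/-- The cosets of the monomial part. -/
abbrev Cos : Type _ := ↥H ⧸ (monoSub F 6).subgroupOf H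

variable {H}

theorem mk_fix_iff {K : Subgroup (O F 6)} (x g : ↥H) :
    x • (QuotientGroup.mk g : ↥H ⧸ K.subgroupOf H) = QuotientGroup.mk g ↔
      ((g : O F 6)⁻¹ * x * g) ∈ K := by
  rw [MulAction.Quotient.smul_mk, QuotientGroup.eq, smul_eq_mul, Subgroup.mem_subgroupOf]
  rw [← inv_mem_iff (H := K)]
  simp [mul_assoc]

theorem Six.eps_fix_iff (hS : Six H) {a b : Fin 6} (hab : a ≠ b) (c g : ↥H)
    (h : (⟨_, hS.toOver.eps_mem a b⟩ : ↥H) • (QuotientGroup.mk g : Cos H) = QuotientGroup.mk g) :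
    Mono (g : O F 6) := by
  rw [mk_fix_iff] at h
  have h' := hS.mono_of_eps (inv_mem g.2) hab (by rw [inv_inv]; exact h)
  simpa using h'.inv

theorem Six.odd_index (hS : Six H) : Odd (Nat.card (Cos H)) := by
  set x : ↥H := ⟨_, hS.toOver.eps_mem 0 1⟩
  have hx : x * x = 1 := Subtype.ext (eps_sq (by decide))
  refine odd_of_one_fixed (MulAction.toPermHom ↥H (Cos H) x) (by rw [← map_mul, hx, map_one])
    (QuotientGroup.mk 1) ?_ fun q hq => ?_
  · refine (mk_fix_iff x 1).2 ?_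
    change Mono (((1 : ↥H) : O F 6)⁻¹ * eps 0 1 * ((1 : ↥H) : O F 6))
    rw [Subgroup.coe_one, inv_one, one_mul, mul_one]
    exact (evenMono_eps (by decide)).mono
  · obtain ⟨g, rfl⟩ := QuotientGroup.mk_surjective q
    have hg := hS.eps_fix_iff (show (0 : Fin 6) ≠ 1 by decide) x g hq
    exact (QuotientGroup.eq.2 (by rw [mul_one, Subgroup.mem_subgroupOf]; exact (monoSub F 6).inv_mem hg))

set_option maxHeartbeats 1000000 in
theorem Six.uu_fusion (hS : Six H) (hu : (uu : O F 6) ∈ H) {g : O F 6} (hg : g ∈ H)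
    (hm : Mono (g⁻¹ * uu * g)) : ∃ c ∈ H, c * uu = uu * c ∧ Mono (c⁻¹ * g) := by
  classical
  set u : ↥H := ⟨_, hu⟩
  set C := Subgroup.centralizer ({u} : Set ↥H)
  have h2 := hS.two
  set q₀ : Cos H := QuotientGroup.mk 1
  set q₁ : Cos H := QuotientGroup.mk ⟨g, hg⟩
  by_cases hq : q₁ ∈ MulAction.orbit C q₀
  · obtain ⟨c, hc⟩ := hq
    refine ⟨(c : ↥H), (c : ↥H).2, congrArg Subtype.val
      ((Subgroup.mem_centralizer_singleton_iff.1 c.2)), ?_⟩
    have h := QuotientGroup.eq.1 hc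
    rw [Subgroup.mem_subgroupOf] at h
    simp only [smul_eq_mul, Subgroup.coe_mul, Subgroup.coe_inv, Subgroup.coe_one, mul_one] at h
    exact h
  exfalso
  have huu : (uu : O F 6) * uu = 1 := O_ext fun i => funext fun t => by
    rw [mul_apply, uu_coord h2, uu_coord h2, one_apply]
    fin_cases t <;> simp
  -- an involution of the centraliser fixing only the base point
  set x : ↥H := ⟨_, hS.toOver.eps_mem 3 4⟩ with hx
  have hxC : x ∈ C := Subgroup.mem_centralizer_singleton_iff.2 (Subtype.ext (O_ext fun i => funext fun t => by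
    show (eps 3 4 * uu : O F 6).1 (e i) t = (uu * eps 3 4 : O F 6).1 (e i) t
    rw [mul_apply, mul_apply, eps_coord (by decide), uu_coord h2, uu_coord h2]
    fin_cases t <;> simp [eps_coord (show (3 : Fin 6) ≠ 4 by decide)]))
  have hx2 : (⟨x, hxC⟩ : C) * ⟨x, hxC⟩ = 1 := Subtype.ext (Subtype.ext (eps_sq (by decide)))
  have heven : Even (Nat.card (MulAction.orbit C q₁)) := by
    refine even_of_no_fixed (MulAction.toPermHom C (MulAction.orbit C q₁) ⟨x, hxC⟩)
      (by rw [← map_mul, hx2, map_one]) ?_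
    rintro ⟨q, hqo⟩ hq'
    obtain ⟨k, rfl⟩ := QuotientGroup.mk_surjective q
    have hk := hS.eps_fix_iff (show (3 : Fin 6) ≠ 4 by decide) x k (congrArg Subtype.val hq')
    have hk0 : (QuotientGroup.mk k : Cos H) = q₀ := QuotientGroup.eq.2 (by
      rw [mul_one, Subgroup.mem_subgroupOf]; exact (monoSub F 6).inv_mem hk)
    rw [hk0] at hqo
    exact hq (by rw [MulAction.orbit_eq_iff.2 hqo]; exact MulAction.mem_orbit_self _)
  obtain ⟨a, b, hab, hcomm⟩ := exists_eps_comm hm (by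
    rw [show g⁻¹ * uu * g * (g⁻¹ * uu * g) = g⁻¹ * (uu * uu) * g by group, huu, mul_one, inv_mul_cancel])
  set y : ↥H := ⟨g * eps a b * g⁻¹, mul_mem (mul_mem hg (hS.toOver.eps_mem a b)) (inv_mem hg)⟩ with hy
  have hyC : y ∈ C := Subgroup.mem_centralizer_singleton_iff.2 (Subtype.ext (by
    show g * eps a b * g⁻¹ * uu = uu * (g * eps a b * g⁻¹)
    calc g * eps a b * g⁻¹ * uu = g * (eps a b * (g⁻¹ * uu * g)) * g⁻¹ := by group
      _ = g * (g⁻¹ * uu * g * eps a b) * g⁻¹ := by rw [hcomm]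
      _ = uu * (g * eps a b * g⁻¹) := by group))
  have hy2 : (⟨y, hyC⟩ : C) * ⟨y, hyC⟩ = 1 := Subtype.ext (Subtype.ext (by
    show g * eps a b * g⁻¹ * (g * eps a b * g⁻¹) = 1
    rw [show g * eps a b * g⁻¹ * (g * eps a b * g⁻¹) = g * (eps a b * eps a b) * g⁻¹ by group,
      eps_sq hab, mul_one, mul_inv_cancel]))
  have hodd : Odd (Nat.card (MulAction.orbit C q₁)) := by
    refine odd_of_one_fixed (MulAction.toPermHom C (MulAction.orbit C q₁) ⟨y, hyC⟩)
      (by rw [← map_mul, hy2, map_one]) ⟨q₁, MulAction.mem_orbit_self _⟩ ?_ ?_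
    · refine Subtype.ext ((mk_fix_iff y ⟨g, hg⟩).2 ?_)
      simp only [hy]
      rw [show g⁻¹ * (g * eps a b * g⁻¹) * g = eps a b by group]
      exact (evenMono_eps (F := F) hab).mono
    · rintro ⟨q, hqo⟩ hq'
      obtain ⟨k, rfl⟩ := QuotientGroup.mk_surjective q
      have h : ((k : O F 6))⁻¹ * (g * eps a b * g⁻¹) * (k : O F 6) ∈ monoSub F 6 :=
        (mk_fix_iff y k).1 (congrArg Subtype.val hq')
      have h' := hS.mono_of_eps (h := (k : O F 6)⁻¹ * g) (mul_mem (inv_mem k.2) hg) hab (by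
        rw [show (k : O F 6)⁻¹ * g * eps a b * ((k : O F 6)⁻¹ * g)⁻¹ =
          (k : O F 6)⁻¹ * (g * eps a b * g⁻¹) * (k : O F 6) by group]
        exact h)
      exact Subtype.ext (QuotientGroup.eq.2 (by
        rw [Subgroup.mem_subgroupOf]; exact h'))
  exact (Nat.not_even_iff_odd.2 hodd) heven

end transfer

set_option maxHeartbeats 1000000 in
theorem Six.exists_core (hS : Six H) : ∃ K, Core H K := by
  classical
  by_cases hodd : ∀ g ∈ H, Mono g → EvenMono g
  · exact ⟨H, hS, le_rfl, fun g hg k hk => mul_mem (mul_mem hg hk) (inv_mem hg), fun g hg _ => hg, hodd⟩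
  push Not at hodd
  obtain ⟨g₀, hg₀, hg₀m, hg₀e⟩ := hodd
  have h2 := hS.two
  have hO := hS.toOver
  obtain ⟨π₀, s₀, hs₀, hπ₀⟩ := hg₀m.exists_perm
  have hu : (uu : O F 6) ∈ H := hO.uu_mem hg₀ ((Int.units_eq_one_or _).resolve_left fun h =>
    hg₀e ⟨π₀, s₀, h, hs₀, hπ₀⟩) hs₀ hπ₀
  set M₀ := (evenSub F).subgroupOf H with hM₀
  have : Fintype (↥H ⧸ M₀) := Fintype.ofFinite _
  set V : ↥H →* ℤˣ := Equiv.Perm.sign.comp (MulAction.toPermHom ↥H (↥H ⧸ M₀)) with hV
  set u : ↥H := ⟨_, hu⟩ with hudef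
  have hrel : M₀.relIndex ((monoSub F 6).subgroupOf H) = 2 := by
    rw [Subgroup.relIndex, Subgroup.index_eq_two_iff]
    refine ⟨⟨u, by rw [Subgroup.mem_subgroupOf]; exact mono_of_data (fun i => by fin_cases i <;> simp [uuSign]) (data_uu h2)⟩,
      fun b => ?_⟩
    have hb : Mono ((b : ↥H) : O F 6) := Subgroup.mem_subgroupOf.1 b.2
    obtain ⟨π, s, hs, hπ⟩ := hb.exists_perm
    have hmu := data_mul hπ (data_uu h2)
    simp only [Subgroup.mem_subgroupOf, hM₀, Subgroup.coe_mul, hudef]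
    rcases Int.units_eq_one_or (Equiv.Perm.sign π) with h | h
    · refine Or.inr ⟨⟨π, s, h, hs, hπ⟩, fun he => ?_⟩
      have := EvenMono.sign he hmu
      rw [map_mul, h, Equiv.Perm.sign_swap (by decide)] at this
      exact absurd this (by decide)
    · refine Or.inl ⟨⟨π * Equiv.swap 0 1, _, by rw [map_mul, h, Equiv.Perm.sign_swap (by decide)]; rfl,
        fun a => ?_, hmu⟩, fun he => ?_⟩
      · have h1 : ∀ i : Fin 6, (uuSign (F := F)) i * uuSign (F := F) i = 1 := fun i => by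
          fin_cases i <;> simp [uuSign]
        linear_combination (s (Equiv.swap 0 1 a) * s (Equiv.swap 0 1 a)) * h1 a + hs (Equiv.swap 0 1 a)
      · have := EvenMono.sign he hπ
        rw [h] at this
        exact absurd this (by decide)
  have hcard : Fintype.card (↥H ⧸ M₀) = 2 * Nat.card (Cos H) := by
    rw [← Nat.card_eq_fintype_card]
    change M₀.index = 2 * ((monoSub F 6).subgroupOf H).index
    rw [← hrel]
    exact (Subgroup.relIndex_mul_index fun x hx => Subgroup.mem_subgroupOf.2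
      (EvenMono.mono (Subgroup.mem_subgroupOf.1 hx))).symm
  have huu : u * u = 1 := Subtype.ext (O_ext fun i => funext fun t => by
    show (uu * uu : O F 6).1 (e i) t = (1 : O F 6).1 (e i) t
    rw [mul_apply, uu_coord h2, uu_coord h2, one_apply]
    fin_cases t <;> simp)
  have hVu : V u = -1 := by
    rw [hV, MonoidHom.comp_apply, Equiv.Perm.sign_of_pow_two_eq_one (by rw [pow_two, ← map_mul, huu, map_one])]
    have : IsEmpty (Function.fixedPoints (MulAction.toPermHom ↥H (↥H ⧸ M₀) u)) := by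
      refine ⟨fun ⟨q, hq⟩ => ?_⟩
      obtain ⟨g, rfl⟩ := QuotientGroup.mk_surjective q
      have hm : EvenMono ((g : O F 6)⁻¹ * uu * (g : O F 6)) := (mk_fix_iff u g).1 hq
      obtain ⟨c, -, hc, hcm⟩ := hS.uu_fusion hu g.2 hm.mono
      obtain ⟨π, s, hs, hπ⟩ := hcm.exists_perm
      have hd := data_mul (data_inv hs hπ) (data_mul (data_uu h2) hπ)
      have heq : (c⁻¹ * (g : O F 6))⁻¹ * (uu * (c⁻¹ * (g : O F 6))) = (g : O F 6)⁻¹ * uu * (g : O F 6) := by
        calc (c⁻¹ * (g : O F 6))⁻¹ * (uu * (c⁻¹ * (g : O F 6))) = (g : O F 6)⁻¹ * (c * uu) * c⁻¹ * (g : O F 6) := by group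
          _ = _ := by rw [hc]; group
      rw [heq] at hd
      have := EvenMono.sign hm hd
      rw [map_mul, map_mul, map_inv, Equiv.Perm.sign_swap (by decide), ← mul_assoc, mul_comm _ (-1 : ℤˣ),
        mul_assoc, inv_mul_cancel, mul_one] at this
      exact absurd this (by decide)
    rw [show Fintype.card (Function.fixedPoints (MulAction.toPermHom ↥H (↥H ⧸ M₀) u)) = 0 from
      Fintype.card_eq_zero, Nat.sub_zero, hcard, Nat.mul_div_cancel_left _ two_pos]
    exact hS.odd_index.neg_one_pow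
  have hconjV : ∀ a b : ↥H, V (a * b * a⁻¹) = V b := fun a b => by
    rw [map_mul, map_mul, map_inv, mul_comm (V a), mul_inv_cancel_right]
  -- sign changes of two coordinates
  have hVeps : ∀ {a b : Fin 6}, a ≠ b → V ⟨_, hO.eps_mem a b⟩ = 1 := by
    intro a b hab
    obtain ⟨c, hca, hcb⟩ := (by decide : ∀ a b : Fin 6, ∃ c, c ≠ a ∧ c ≠ b) a b
    have hall : ∀ {x y : Fin 6}, x ≠ y → V ⟨_, hO.eps_mem x y⟩ = V ⟨_, hO.eps_mem a b⟩ := fun {x y} hxy => by
      obtain ⟨m, hm, -, hmc⟩ := hO.conj_eps hab hxy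
      rw [← hconjV ⟨m, hm⟩ ⟨_, hO.eps_mem a b⟩]
      exact congrArg V (Subtype.ext hmc.symm)
    have hprod : (⟨_, hO.eps_mem a b⟩ : ↥H) * ⟨_, hO.eps_mem b c⟩ = ⟨_, hO.eps_mem a c⟩ := Subtype.ext (by
      show R (e a) * R (e b) * (R (e b) * R (e c)) = R (e a) * R (e c)
      rw [← mul_assoc, mul_assoc (R (e (F := F) a)), R_sq, mul_one])
    have h := congrArg V hprod
    rw [map_mul, hall hcb.symm, hall hca.symm] at h
    exact mul_left_cancel (h.trans (mul_one _).symm)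
  -- double interchanges
  have hrr : ∀ {x y p q : Fin 6}, x ≠ y → p ≠ q → R (rt (F := F) x y) * R (rt p q) ∈ H :=
    fun hxy hpq => hO.rel_root hxy hpq (by ring) (by ring)
  have hVdis : ∀ {x y p q : Fin 6} (hxy : x ≠ y) (hpq : p ≠ q), x ≠ p → x ≠ q → y ≠ p → y ≠ q →
      V ⟨_, hrr hxy hpq⟩ = 1 := by
    have hall : ∀ {x y p q : Fin 6} (hxy : x ≠ y) (hpq : p ≠ q), x ≠ p → x ≠ q → y ≠ p → y ≠ q →
        V ⟨_, hrr hxy hpq⟩ = V ⟨_, hrr (show (0 : Fin 6) ≠ 1 by decide) (show (2 : Fin 6) ≠ 3 by decide)⟩ := by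
      intro x y p q hxy hpq h1 h2' h3 h4
      obtain ⟨m, hm, -, hmc⟩ := hO.conj_tee hxy h1 h2' h3 h4 hpq (show (-1 : F) * -1 = 1 by ring)
        (show (-1 : F) * -1 = 1 by ring)
      rw [← hconjV ⟨m, hm⟩ ⟨_, hrr (show (0 : Fin 6) ≠ 1 by decide) (show (2 : Fin 6) ≠ 3 by decide)⟩]
      exact congrArg V (Subtype.ext hmc.symm)
    intro x y p q hxy hpq h1 h2' h3 h4
    rw [hall hxy hpq h1 h2' h3 h4]
    have hprod : (⟨_, hrr (show (2 : Fin 6) ≠ 3 by decide) (show (0 : Fin 6) ≠ 1 by decide)⟩ : ↥H) *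
        ⟨_, hrr (show (0 : Fin 6) ≠ 1 by decide) (show (4 : Fin 6) ≠ 5 by decide)⟩ =
        ⟨_, hrr (show (2 : Fin 6) ≠ 3 by decide) (show (4 : Fin 6) ≠ 5 by decide)⟩ := Subtype.ext (by
      show R (rt (F := F) 2 3) * R (rt 0 1) * (R (rt 0 1) * R (rt 4 5)) = R (rt 2 3) * R (rt 4 5)
      rw [← mul_assoc, mul_assoc (R (rt (F := F) 2 3)), R_sq, mul_one])
    have h := congrArg V hprod
    rw [map_mul, hall (show (2 : Fin 6) ≠ 3 by decide) (show (0 : Fin 6) ≠ 1 by decide) (by decide)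
        (by decide) (by decide) (by decide),
      hall (show (0 : Fin 6) ≠ 1 by decide) (show (4 : Fin 6) ≠ 5 by decide) (by decide) (by decide) (by decide)
        (by decide),
      hall (show (2 : Fin 6) ≠ 3 by decide) (show (4 : Fin 6) ≠ 5 by decide) (by decide) (by decide) (by decide)
        (by decide)] at h
    exact mul_left_cancel (h.trans (mul_one _).symm)
  have hVxy : ∀ {x y : Fin 6} (hxy : x ≠ y), V ⟨_, hrr hxy (show (0 : Fin 6) ≠ 1 by decide)⟩ = 1 := by
    intro x y hxy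
    obtain ⟨p, q, hp, hq, hpq⟩ := exists_avoid ({x, y, 0, 1} : Finset (Fin 6)) (by
      have := Finset.card_le_four (a := x) (b := y) (c := (0 : Fin 6)) (d := 1); omega)
    simp only [Finset.mem_insert, Finset.mem_singleton, not_or] at hp hq
    have hprod : (⟨_, hrr hxy hpq⟩ : ↥H) * ⟨_, hrr hpq (show (0 : Fin 6) ≠ 1 by decide)⟩ =
        ⟨_, hrr hxy (show (0 : Fin 6) ≠ 1 by decide)⟩ := Subtype.ext (by
      show R (rt (F := F) x y) * R (rt p q) * (R (rt p q) * R (rt 0 1)) = R (rt x y) * R (rt 0 1)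
      rw [← mul_assoc, mul_assoc (R (rt (F := F) x y)), R_sq, mul_one])
    rw [← hprod, map_mul, hVdis hxy hpq (Ne.symm hp.1) (Ne.symm hq.1) (Ne.symm hp.2.1) (Ne.symm hq.2.1),
      hVdis hpq (show (0 : Fin 6) ≠ 1 by decide) hp.2.2.1 hp.2.2.2 hq.2.2.1 hq.2.2.2, one_mul]
  have hVpure : ∀ π : Equiv.Perm (Fin 6), ∃ g : O F 6, (∀ a, g.1 (e a) = e (π a)) ∧
      (Equiv.Perm.sign π = 1 → ∃ h : g ∈ H, V ⟨g, h⟩ = 1) ∧
      (Equiv.Perm.sign π = -1 → ∃ h : R (rt 0 1) * g ∈ H, V ⟨_, h⟩ = 1) := by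
    intro π
    induction π using Equiv.Perm.swap_induction_on with
    | one => exact ⟨1, fun a => rfl, fun _ => ⟨one_mem _, map_one V⟩, fun h => absurd h (by simp)⟩
    | swap_mul π x y hxy ih =>
      obtain ⟨g, hg, h1, hm⟩ := ih
      refine ⟨R (rt x y) * g, fun a => funext fun t => ?_, fun hs => ?_, fun hs => ?_⟩
      · rw [mul_apply, hg, rt_coord h2 hxy, e_apply, e_apply, Equiv.Perm.mul_apply]
        exact if_congr Equiv.swap_apply_eq_iff rfl rfl
      · rw [map_mul, Equiv.Perm.sign_swap hxy, neg_one_mul, neg_eq_iff_eq_neg] at hs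
        obtain ⟨hH', hVg⟩ := hm hs
        have heq : R (rt x y) * g = R (rt x y) * R (rt 0 1) * (R (rt 0 1) * g) := by
          rw [← mul_assoc, mul_assoc (R (rt (F := F) x y)), R_sq, mul_one]
        refine ⟨heq ▸ mul_mem (hrr hxy (show (0 : Fin 6) ≠ 1 by decide)) hH', ?_⟩
        rw [show (⟨R (rt x y) * g, _⟩ : ↥H) = ⟨_, hrr hxy (show (0 : Fin 6) ≠ 1 by decide)⟩ * ⟨_, hH'⟩ from
          Subtype.ext heq, map_mul, hVxy hxy, hVg, one_mul]
      · rw [map_mul, Equiv.Perm.sign_swap hxy, neg_one_mul, neg_inj] at hs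
        obtain ⟨hH', hVg⟩ := h1 hs
        have heq : R (rt 0 1) * (R (rt x y) * g) = (R (rt x y) * R (rt 0 1))⁻¹ * g := by
          rw [_root_.mul_inv_rev, R_inv, R_inv, mul_assoc]
        refine ⟨by rw [heq]; exact mul_mem (inv_mem (hrr hxy (show (0 : Fin 6) ≠ 1 by decide))) hH', ?_⟩
        rw [show (⟨R (rt 0 1) * (R (rt x y) * g), _⟩ : ↥H) =
          (⟨_, hrr hxy (show (0 : Fin 6) ≠ 1 by decide)⟩ : ↥H)⁻¹ * ⟨_, hH'⟩ from
          Subtype.ext heq, map_mul, map_inv, hVxy hxy, hVg, inv_one, one_mul]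
  have hVeven : ∀ g : ↥H, EvenMono (g : O F 6) → V g = 1 := by
    rintro ⟨g, hgH⟩ ⟨π, s, hπ, hs, hg⟩
    obtain ⟨m, hmv, h1, -⟩ := hVpure π
    obtain ⟨hm, hVm⟩ := h1 hπ
    set d : O F 6 := m⁻¹ * g with hd
    have hdH : d ∈ H := mul_mem (inv_mem hm) hgH
    have hdv : ∀ a, d.1 (e a) = s a • e ((1 : Equiv.Perm (Fin 6)) a) := fun a => by
      rw [hd, mul_apply, hg, map_smul, ← hmv, ← mul_apply m⁻¹ m, inv_mul_cancel, one_apply, Equiv.Perm.one_apply]
    have hd2 : d * d = 1 := O_ext fun a => by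
      rw [mul_apply, hdv, Equiv.Perm.one_apply, map_smul, hdv, Equiv.Perm.one_apply, smul_smul, hs, one_smul,
        one_apply]
    have hVN : V ⟨_, hO.neg6_mem⟩ = 1 := by
      rw [show (⟨(neg6 : O F 6), hO.neg6_mem⟩ : ↥H) =
        ⟨_, hO.eps_mem 0 1⟩ * ⟨_, hO.eps_mem 2 3⟩ * ⟨_, hO.eps_mem 4 5⟩ from rfl, map_mul, map_mul,
        hVeps (by decide), hVeps (by decide), hVeps (by decide), one_mul, one_mul]
    have hVd : V ⟨d, hdH⟩ = 1 := by
      rcases hO.invol_cases hdH (mono_of_data hs hdv) hd2 hs hdv with h | h | h | h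
      · rw [show (⟨d, hdH⟩ : ↥H) = 1 from Subtype.ext h, map_one]
      · rw [show (⟨d, hdH⟩ : ↥H) = ⟨_, hO.neg6_mem⟩ from Subtype.ext h, hVN]
      · rcases h with ⟨-, a, b, hab, hc⟩ | ⟨-, m', hm', -, hc⟩ | ⟨hbad, -⟩
        · rw [show (⟨d, hdH⟩ : ↥H) = ⟨_, hO.eps_mem a b⟩ from Subtype.ext hc, hVeps hab]
        · rw [show (⟨d, hdH⟩ : ↥H) = ⟨m', hm'⟩ * ⟨_, hrr (show (0 : Fin 6) ≠ 1 by decide)
            (show (2 : Fin 6) ≠ 3 by decide)⟩ * ⟨m', hm'⟩⁻¹ from Subtype.ext hc.symm, hconjV,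
            hVdis (show (0 : Fin 6) ≠ 1 by decide) (show (2 : Fin 6) ≠ 3 by decide) (by decide) (by decide) (by decide) (by decide)]
        · exact absurd hbad (by simp)
      · have hd' : d = neg6 * (neg6 * d) := by rw [← mul_assoc, neg6_sq, one_mul]
        rcases h with ⟨-, a, b, hab, hc⟩ | ⟨-, m', hm', -, hc⟩ | ⟨hbad, -⟩
        · rw [show (⟨d, hdH⟩ : ↥H) = ⟨_, hO.neg6_mem⟩ * ⟨_, hO.eps_mem a b⟩ from
            Subtype.ext (by simp only [Subgroup.coe_mul]; rw [← hc]; exact hd'), map_mul, hVN, hVeps hab,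
            one_mul]
        · rw [show (⟨d, hdH⟩ : ↥H) = ⟨_, hO.neg6_mem⟩ * (⟨m', hm'⟩ * ⟨_, hrr (show (0 : Fin 6) ≠ 1 by decide)
            (show (2 : Fin 6) ≠ 3 by decide)⟩ * ⟨m', hm'⟩⁻¹) from
            Subtype.ext (by
              simp only [Subgroup.coe_mul, Subgroup.coe_inv]
              exact hd'.trans (congrArg (fun x => neg6 * x) hc.symm)), map_mul, hVN, hconjV,
            hVdis (show (0 : Fin 6) ≠ 1 by decide) (show (2 : Fin 6) ≠ 3 by decide) (by decide) (by decide) (by decide) (by decide), one_mul]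
        · exact absurd hbad (by simp)
    rw [show (⟨g, hgH⟩ : ↥H) = ⟨m, hm⟩ * ⟨d, hdH⟩ from Subtype.ext (by simp [hd]), map_mul, hVm, hVd, one_mul]
  refine ⟨V.ker.map H.subtype, hS, Subgroup.map_subtype_le _, ?_, ?_, ?_⟩
  · rintro g hg _ ⟨k, hk, rfl⟩
    exact ⟨⟨g, hg⟩ * k * ⟨g, hg⟩⁻¹, MonoidHom.mem_ker.2 (by rw [hconjV]; exact hk), rfl⟩
  · exact fun g hg he => ⟨⟨g, hg⟩, MonoidHom.mem_ker.2 (hVeven _ he), rfl⟩
  · rintro _ ⟨k, hk, rfl⟩ hm
    obtain ⟨π, s, hs, hπ⟩ := hm.exists_perm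
    rcases Int.units_eq_one_or (Equiv.Perm.sign π) with h | h
    · exact ⟨π, s, h, hs, hπ⟩
    exfalso
    have hku : EvenMono ((k * u : ↥H) : O F 6) :=
      ⟨π * Equiv.swap 0 1, _, by rw [map_mul, h, Equiv.Perm.sign_swap (by decide)]; rfl, fun a => by
        have h1 : ∀ i : Fin 6, (uuSign (F := F)) i * uuSign (F := F) i = 1 := fun i => by
          fin_cases i <;> simp [uuSign]
        linear_combination (s (Equiv.swap 0 1 a) * s (Equiv.swap 0 1 a)) * h1 a + hs (Equiv.swap 0 1 a),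
        data_mul hπ (data_uu h2)⟩
    have := hVeven _ hku
    rw [map_mul, MonoidHom.mem_ker.1 hk, one_mul, hVu] at this
    exact absurd this (by decide)

end CfsgLib.Geo.OFrame
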