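import Cfsg.Agent.Geo.FrameSix.Invol

/-!
No involution of the monomial part outside the diagonal is conjugate to the negation of a coordinate
plane.
-/

set_option autoImplicit false
set_option linter.unusedSectionVars false

namespace CfsgLib.Geo.OFrame

open QuadraticMap CfsgLib.Forms CfsgLib.Quad Matrix

variable {F : Type*} [Field F] [Finite F] [DecidableEq F] {H : Subgroup (O F 6)}

theorem tee_coord (h2 : (2 : F) ≠ 0) (v : Fin 6 → F) :
    (tee : O F 6).1 v = ![v 1, v 0, v 3, v 2, v 4, v 5] := funext fun t => by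
  rw [tee, mul_apply, rt_coord h2 (by decide), rt_coord h2 (by decide)]
  fin_cases t <;> rfl

theorem uu_coord (h2 : (2 : F) ≠ 0) (v : Fin 6 → F) :
    (uu : O F 6).1 v = ![v 1, v 0, -v 2, v 3, v 4, v 5] := funext fun t => by
  rw [uu, mul_apply, rt_coord h2 (by decide), R_e_coord']
  fin_cases t <;> simp [Equiv.swap_apply_def]

theorem ne_eps_of_move {τ : O F 6} (h : τ.1 (e 0) = e 1) {a b : Fin 6} (hab : a ≠ b) : τ ≠ eps a b := by
  intro heq
  have h1 := congrFun h 1
  rw [heq, eps_apply_e hab] at h1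
  split_ifs at h1 <;> simp [e_apply] at h1

/-- A monomial conjugator gives a diagonal involution. -/
theorem not_mono_of_conj {τ h : O F 6} (h0 : τ.1 (e 0) = e 1) {a b : Fin 6} (hab : a ≠ b)
    (hτ : h * eps a b * h⁻¹ = τ) : ¬ Mono h := by
  intro hm
  obtain ⟨c, d, hcd, hc⟩ := hm.conj_eps hab
  exact ne_eps_of_move h0 hcd (hτ.symm.trans hc)

/-- The axes of a conjugate of the negation. -/
theorem Six.axis (hS : Six H) {h τ : O F 6} (hh : h ∈ H) (hτ : h * eps 0 1 * h⁻¹ = τ)
    {f : Fin 6 → F} (hf : τ.1 f = f) (hfn : f ⬝ᵥ f ≠ 0) {m : O F 6} (hm : m ∈ H)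
    (hcomm : m * τ = τ * m) (hact : ∀ v, τ.1 v = v → m.1 v = (R f : O F 6).1 v) :
    (h⁻¹).1 f 0 = 0 ∧ (h⁻¹).1 f 1 = 0 ∧ ((∃ c : Fin 6, ∃ l : F, h.1 (e c) = l • f) ∨
      ∃ p q, p ≠ q ∧ supp ((h⁻¹).1 f) = {p, q} ∧
        2 * ((h⁻¹).1 f p * (h⁻¹).1 f p) = f ⬝ᵥ f ∧ 2 * ((h⁻¹).1 f q * (h⁻¹).1 f q) = f ⬝ᵥ f) := by
  classical
  have h2 := hS.two
  set y := (h⁻¹).1 f with hy
  have hhy : h.1 y = f := by rw [hy, ← mul_apply, mul_inv_cancel, one_apply]
  have hepsy : (eps 0 1 : O F 6).1 y = y := by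
    rw [show eps 0 1 = h⁻¹ * τ * h by rw [← hτ]; group, mul_apply, mul_apply, hhy, hf]
  have hzero : ∀ t : Fin 6, t = 0 ∨ t = 1 → y t = 0 := fun t ht => by
    have h1 := congrFun hepsy t
    rw [eps_coord (by decide), if_pos ht] at h1
    exact (mul_eq_zero.1 (show (2 : F) * y t = 0 by linear_combination -h1)).resolve_left h2
  refine ⟨hzero 0 (Or.inl rfl), hzero 1 (Or.inr rfl), ?_⟩
  have hk : Mono (h⁻¹ * m * h) := by
    refine hS.comm_mono (show (0 : Fin 6) ≠ 1 by decide) (mul_mem (mul_mem (inv_mem hh) hm) hh) ?_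
    calc h⁻¹ * m * h * eps 0 1 = h⁻¹ * (m * τ) * h := by rw [← hτ]; group
      _ = h⁻¹ * (τ * m) * h := by rw [hcomm]
      _ = eps 0 1 * (h⁻¹ * m * h) := by rw [← hτ]; group
  have hcol : ∀ c : Fin 6, c ≠ 0 → c ≠ 1 →
      (h⁻¹ * m * h).1 (e c) = e c - (2 * y c / (f ⬝ᵥ f)) • y := by
    intro c hc0 hc1
    have hfix : τ.1 (h.1 (e c)) = h.1 (e c) := by
      rw [← hτ, mul_apply, mul_apply, ← mul_apply h⁻¹ h, inv_mul_cancel, one_apply,
        eps_apply_e (by decide), if_neg (by simp [hc0, hc1])]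
    rw [mul_apply, mul_apply, hact _ hfix, R_apply, map_sub, map_smul, ← mul_apply h⁻¹ h, inv_mul_cancel,
      one_apply, ← hy, ← hhy, dot_map h h2, e_dot, hhy]
  have hin : ∀ c, y c ≠ 0 → c ≠ 0 ∧ c ≠ 1 := fun c hc =>
    ⟨fun h' => hc (hzero c (Or.inl h')), fun h' => hc (hzero c (Or.inr h'))⟩
  have hle : (supp y).card ≤ 2 := by
    by_contra hgt
    obtain ⟨p, hp⟩ := Finset.card_pos.1 (show 0 < (supp y).card by omega)
    have hcard := Finset.card_erase_of_mem hp
    obtain ⟨q, hq, r, hr, hqr⟩ := Finset.one_lt_card.1 (show 1 < ((supp y).erase p).card by omega)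
    simp only [Finset.mem_erase, mem_supp] at hp hq hr
    have h1 := hk p
    rw [hcol p (hin p hp).1 (hin p hp).2] at h1
    refine hqr (Finset.card_le_one.1 h1 q ?_ r ?_) <;>
      simp [mem_supp, e_apply, hq.1, hr.1, hq.2, hr.2, h2, hp, hfn]
  obtain h1 | h2' : (supp y).card ≤ 1 ∨ (supp y).card = 2 := by omega
  · refine Or.inl ?_
    obtain ⟨c, hc⟩ := eq_smul_e_of_card (by norm_num) h1
    have hc0 : y c ≠ 0 := fun h0 => hfn (by rw [← hhy, hc, h0, zero_smul, map_zero]; simp)
    refine ⟨c, (y c)⁻¹, ?_⟩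
    have hfe := congrArg h.1 hc
    rw [hhy, map_smul] at hfe
    rw [hfe, smul_smul, inv_mul_cancel₀ hc0, one_smul]
  · refine Or.inr ?_
    obtain ⟨p, q, hpq, hs⟩ := Finset.card_eq_two.1 h2'
    have hne : ∀ t ∈ ({p, q} : Finset (Fin 6)), y t ≠ 0 := fun t ht => mem_supp.1 (hs ▸ ht)
    have key : ∀ u w : Fin 6, u ≠ w → y u ≠ 0 → y w ≠ 0 → 2 * (y u * y u) = f ⬝ᵥ f := by
      intro u w huw hu hw
      by_contra hcon
      have h1 := hk u
      rw [hcol u (hin u hu).1 (hin u hu).2] at h1
      refine huw (Finset.card_le_one.1 h1 u ?_ w ?_)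
      · rw [mem_supp, Pi.sub_apply, Pi.smul_apply, e_apply, if_pos rfl, smul_eq_mul, sub_ne_zero]
        intro h3
        rw [div_mul_eq_mul_div, eq_div_iff hfn] at h3
        exact hcon (by linear_combination -h3)
      · simp [mem_supp, e_apply, huw.symm, h2, hu, hw, hfn]
    exact ⟨p, q, hpq, hs, key p q hpq (hne p (by simp)) (hne q (by simp)),
      key q p hpq.symm (hne q (by simp)) (hne p (by simp))⟩

/-- Supports under monomial elements. -/
theorem supp_mono_image {k : O F 6} {π : Equiv.Perm (Fin 6)} {s : Fin 6 → F} (hs : ∀ i, s i * s i = 1)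
    (hk : ∀ i, k.1 (e i) = s i • e (π i)) (v : Fin 6 → F) : supp (k.1 v) = (supp v).image π := by
  ext t
  obtain ⟨i, rfl⟩ := π.surjective t
  rw [mem_supp, mono_apply_coord hk, Finset.mem_image]
  constructor
  · exact fun h => ⟨i, mem_supp.2 (left_ne_zero_of_mul h), rfl⟩
  · rintro ⟨j, hj, he⟩
    rw [π.injective he] at hj
    exact mul_ne_zero (mem_supp.1 hj) fun h0 => by simpa [h0] using hs i

/-- An element of the overgroup commuting with the conjugate permutes the supports of the axes. -/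
theorem Six.axis_map (hS : Six H) {h τ w : O F 6} (hh : h ∈ H) (hτ : h * eps 0 1 * h⁻¹ = τ)
    (hw : w ∈ H) (hcomm : w * τ = τ * w) :
    ∃ π : Equiv.Perm (Fin 6), ∀ f, supp ((h⁻¹).1 (w.1 f)) = (supp ((h⁻¹).1 f)).image π := by
  have hk : Mono (h⁻¹ * w * h) := by
    refine hS.comm_mono (show (0 : Fin 6) ≠ 1 by decide) (mul_mem (mul_mem (inv_mem hh) hw) hh) ?_
    calc h⁻¹ * w * h * eps 0 1 = h⁻¹ * (w * τ) * h := by rw [← hτ]; group
      _ = h⁻¹ * (τ * w) * h := by rw [hcomm]
      _ = eps 0 1 * (h⁻¹ * w * h) := by rw [← hτ]; group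
  obtain ⟨π, s, hs, hπ⟩ := hk.exists_perm
  refine ⟨π, fun f => ?_⟩
  rw [← supp_mono_image hs hπ, mul_apply, mul_apply, ← mul_apply h h⁻¹, mul_inv_cancel, one_apply]

/-- Orthogonal supports of size at most two meet in none or two points. -/
theorem orth_pair {u v : Fin 6 → F} (h : u ⬝ᵥ v = 0) {p q : Fin 6} (hu : supp u = {p, q}) (hpq : p ≠ q)
    (hv : p ∈ supp v) : q ∈ supp v := by
  by_contra hq
  rw [dotProduct, ← Finset.sum_subset (Finset.subset_univ (supp u)) fun i _ hi => by
    rw [not_mem_supp.1 hi, zero_mul], hu, Finset.sum_pair hpq, not_mem_supp.1 hq, mul_zero, add_zero] at h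
  exact mul_ne_zero (mem_supp.1 (by rw [hu]; simp)) (mem_supp.1 hv) h

theorem no_three_in_two {T : Finset (Fin 6)} (hT : T.card ≤ 2) (u : Fin 3 → Fin 6 → F)
    (hs : ∀ i, supp (u i) ⊆ T) (hn : ∀ i, u i ⬝ᵥ u i ≠ 0) (ho : ∀ i j, i ≠ j → u i ⬝ᵥ u j = 0) :
    False := by
  have := orth_card_le Finset.univ u T (fun i _ => hs i) (fun i _ => hn i) fun i _ j _ => ho i j
  simp at this
  omega

theorem Six.not_conj_uu (hS : Six H) {h : O F 6} (hh : h ∈ H) : h * eps 0 1 * h⁻¹ ≠ uu := by
  intro hτ
  classical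
  have h2 := hS.two
  have hu0 : (uu : O F 6).1 (e 0) = e 1 := funext fun t => by
    rw [uu_coord h2]; fin_cases t <;> simp [e_apply]
  have hmono := not_mono_of_conj hu0 (show (0 : Fin 6) ≠ 1 by decide) hτ
  set y : Fin 6 → Fin 6 → F := fun j => (h⁻¹).1 (e j) with hy
  have hax : ∀ j : Fin 6, j ≠ 0 → j ≠ 1 → j ≠ 2 → ∃ p q, p ≠ q ∧ supp (y j) = {p, q} := by
    intro j h0 h1 h2j
    obtain ⟨-, -, h' | ⟨p, q, hpq, hs, -⟩⟩ := hS.axis hh hτ (f := e j)
      (funext fun t => by rw [uu_coord h2]; fin_cases t <;> simp [e_apply, h0.symm, h1.symm, h2j.symm])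
      (by rw [ee]; exact one_ne_zero) (m := eps 2 j) (hS.toOver.eps_mem 2 j)
      (O_ext fun i => funext fun t => by
        rw [mul_apply, mul_apply, eps_coord h2j.symm, uu_coord h2, uu_coord h2]
        fin_cases t <;> simp [eps_coord h2j.symm, h0.symm, h1.symm, h2j.symm])
      (fun v hv => funext fun t => by
        have hv2 := congrFun hv 2
        rw [uu_coord h2] at hv2
        simp at hv2
        have hv0 : v 2 = 0 := (mul_eq_zero.1 (show (2 : F) * v 2 = 0 by linear_combination -hv2)).resolve_left h2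
        rw [eps_coord h2j.symm, R_e_coord']
        rcases eq_or_ne t 2 with rfl | ht
        · simp [hv0, h2j.symm]
        · simp [ht])
    · obtain ⟨c, l, hc⟩ := h'
      exact absurd (hS.mono_of_line hh hc) hmono
    · exact ⟨p, q, hpq, hs⟩
  obtain ⟨p3, q3, hpq3, hs3⟩ := hax 3 (by decide) (by decide) (by decide)
  obtain ⟨p4, q4, hpq4, hs4⟩ := hax 4 (by decide) (by decide) (by decide)
  obtain ⟨p5, q5, hpq5, hs5⟩ := hax 5 (by decide) (by decide) (by decide)
  set w : O F 6 := R (rt 3 4) * R (rt 4 5) with hw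
  have hwH : w ∈ H := hS.toOver.rel_root (by decide) (by decide) (by ring) (by ring)
  obtain ⟨π, hπ⟩ := hS.axis_map hh hτ hwH (O_ext fun i => funext fun t => by
    rw [mul_apply, mul_apply, hw, mul_apply, mul_apply, rt_coord h2 (by decide), rt_coord h2 (by decide),
      uu_coord h2, uu_coord h2]
    fin_cases t <;> simp [Equiv.swap_apply_def, rt_coord h2 (show (3 : Fin 6) ≠ 4 by decide),
      rt_coord h2 (show (4 : Fin 6) ≠ 5 by decide)])
  have hwe : w.1 (e 3) = e 4 ∧ w.1 (e 4) = e 5 ∧ w.1 (e 5) = e 3 := by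
    refine ⟨?_, ?_, ?_⟩ <;>
      exact funext fun t => by
        rw [hw, mul_apply, rt_coord h2 (by decide), rt_coord h2 (by decide)]
        fin_cases t <;> simp [Equiv.swap_apply_def, e_apply]
  have i34 : supp (y 4) = (supp (y 3)).image π := by rw [← hπ, hwe.1]
  have i45 : supp (y 5) = (supp (y 4)).image π := by rw [← hπ, hwe.2.1]
  have i53 : supp (y 3) = (supp (y 5)).image π := by rw [← hπ, hwe.2.2]
  have horth : ∀ i j, i ≠ j → y i ⬝ᵥ y j = 0 := fun i j hij => by
    simp only [hy]; rw [dot_map _ h2, ee_ne hij]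
  have hin : ∀ j : Fin 6, j ≠ 0 → j ≠ 1 → j ≠ 2 → supp (y j) ⊆ {2, 3, 4, 5} := by
    intro j h0 h1 h2j t ht
    have hfix : (eps 0 1 : O F 6).1 (y j) = y j := by
      simp only [hy]
      rw [show eps (F := F) 0 1 = h⁻¹ * uu * h by rw [← hτ]; group, mul_apply, mul_apply, ← mul_apply h h⁻¹,
        mul_inv_cancel, one_apply,
        show (uu : O F 6).1 (e j) = e j from funext fun t => by
          rw [uu_coord h2]; fin_cases t <;> simp [e_apply, h0.symm, h1.symm, h2j.symm]]
    rw [mem_supp] at ht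
    have h' := congrFun hfix t
    rw [eps_coord (by decide)] at h'
    fin_cases t
    · exact absurd ((mul_eq_zero.1 (show (2 : F) * y j 0 = 0 by simp at h'; linear_combination -h')).resolve_left h2) ht
    · exact absurd ((mul_eq_zero.1 (show (2 : F) * y j 1 = 0 by simp at h'; linear_combination -h')).resolve_left h2) ht
    all_goals simp
  have heq : ∀ i j p q p' q', i ≠ j → p ≠ q → p' ≠ q' → supp (y i) = {p, q} → supp (y j) = {p', q'} →
      supp (y i) = supp (y j) ∨ Disjoint (supp (y i)) (supp (y j)) := by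
    intro i j p q p' q' hij hpq hpq' hi hj
    rcases Finset.eq_empty_or_nonempty (supp (y i) ∩ supp (y j)) with h0 | ⟨t, ht⟩
    · exact Or.inr (Finset.disjoint_iff_inter_eq_empty.2 h0)
    · refine Or.inl (Finset.eq_of_subset_of_card_le ?_ (by rw [hi, hj, Finset.card_pair hpq, Finset.card_pair hpq']))
      rw [Finset.mem_inter] at ht
      obtain ⟨t1, t2⟩ := ht
      rw [hi, Finset.mem_insert, Finset.mem_singleton] at t1
      rw [hi, Finset.insert_subset_iff, Finset.singleton_subset_iff]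
      rcases t1 with rfl | rfl
      · exact ⟨t2, orth_pair (horth i j hij) hi hpq t2⟩
      · exact ⟨orth_pair (horth i j hij) (hi.trans (Finset.pair_comm _ _)) hpq.symm t2, t2⟩
  obtain ⟨hA, hB⟩ : supp (y 4) = supp (y 3) ∧ supp (y 5) = supp (y 3) := by
    rcases heq 3 4 p3 q3 p4 q4 (by decide) hpq3 hpq4 hs3 hs4 with h34 | h34
    · exact ⟨h34.symm, by rw [i45, ← h34, ← i34, ← h34]⟩
    rcases heq 4 5 p4 q4 p5 q5 (by decide) hpq4 hpq5 hs4 hs5 with h45 | h45
    · have h53 : supp (y 3) = supp (y 5) := i53.trans ((congrArg _ h45.symm).trans i45.symm)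
      exact ⟨h45.trans h53.symm, h53.symm⟩
    rcases heq 3 5 p3 q3 p5 q5 (by decide) hpq3 hpq5 hs3 hs5 with h35 | h35
    · have h34' : supp (y 4) = supp (y 3) := i34.trans ((congrArg _ h35).trans i53.symm)
      exact ⟨h34', h35.symm⟩
    exfalso
    have hc := Finset.card_le_card (Finset.union_subset (Finset.union_subset (hin 3 (by decide) (by decide) (by decide))
      (hin 4 (by decide) (by decide) (by decide))) (hin 5 (by decide) (by decide) (by decide)))
    rw [Finset.card_union_of_disjoint (Finset.disjoint_union_left.2 ⟨h35, h45⟩),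
      Finset.card_union_of_disjoint h34, hs3, hs4, hs5, Finset.card_pair hpq3, Finset.card_pair hpq4,
      Finset.card_pair hpq5] at hc
    simp at hc
  refine no_three_in_two (T := supp (y 3)) (by rw [hs3]; exact Finset.card_le_two) ![y 3, y 4, y 5] ?_ ?_ ?_
  · intro i; fin_cases i <;> simp [hA, hB]
  · have hny : ∀ j, y j ⬝ᵥ y j ≠ 0 := fun j => by simp only [hy]; rw [self_map, ee]; exact one_ne_zero
    intro i; fin_cases i <;> simp [hny]
  · intro i j hij; fin_cases i <;> fin_cases j <;> simp_all [horth]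

set_option maxHeartbeats 2000000 in
theorem Six.not_conj_tee (hS : Six H) {h : O F 6} (hh : h ∈ H) : h * eps 0 1 * h⁻¹ ≠ tee := by
  intro hτ
  classical
  have h2 := hS.two
  have hu0 : (tee : O F 6).1 (e 0) = e 1 := funext fun t => by
    rw [tee_coord h2]; fin_cases t <;> simp [e_apply]
  have hmono := not_mono_of_conj hu0 (show (0 : Fin 6) ≠ 1 by decide) hτ
  set f1 : Fin 6 → F := e 0 + (1 : F) • e 1 with hf1
  set f2 : Fin 6 → F := e 2 + (1 : F) • e 3 with hf2
  set g : F → Fin 6 → F := fun ρ => e 4 + ρ • e 5 with hg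
  have n1 : f1 ⬝ᵥ f1 = 2 := (root_norm h2 (by decide) (by ring)).1
  have n2 : f2 ⬝ᵥ f2 = 2 := (root_norm h2 (by decide) (by ring)).1
  have ng : ∀ ρ, ρ * ρ = 1 → g ρ ⬝ᵥ g ρ = 2 := fun ρ hρ => (root_norm h2 (by decide) hρ).1
  have hfix : ∀ v, (tee : O F 6).1 v = v → v 0 = v 1 ∧ v 2 = v 3 := fun v hv => by
    have a0 := congrFun hv 1; have a2 := congrFun hv 3
    rw [tee_coord h2] at a0 a2
    exact ⟨by simpa using a0, by simpa using a2⟩
  have tf1 : (tee : O F 6).1 f1 = f1 := funext fun t => by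
    rw [tee_coord h2]; fin_cases t <;> simp [hf1, e_apply]
  have tf2 : (tee : O F 6).1 f2 = f2 := funext fun t => by
    rw [tee_coord h2]; fin_cases t <;> simp [hf2, e_apply]
  have tg : ∀ ρ, (tee : O F 6).1 (g ρ) = g ρ := fun ρ => funext fun t => by
    rw [tee_coord h2]; fin_cases t <;> simp [hg, e_apply]
  have a1 := hS.axis hh hτ tf1 (by rw [n1]; exact h2) (m := eps 0 1) (hS.toOver.eps_mem 0 1)
    (O_ext fun i => funext fun t => by
      rw [mul_apply, mul_apply, eps_coord (by decide), tee_coord h2, tee_coord h2]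
      fin_cases t <;> simp [eps_coord (show (0 : Fin 6) ≠ 1 by decide)])
    (fun v hv => funext fun t => by
      rw [eps_coord (by decide), R_apply, n1, mul_div_cancel_left₀ _ h2]
      fin_cases t <;> simp [hf1, e_apply, dot_e, dotProduct_add, (hfix v hv).1] <;> ring)
  have a2 := hS.axis hh hτ tf2 (by rw [n2]; exact h2) (m := eps 2 3) (hS.toOver.eps_mem 2 3)
    (O_ext fun i => funext fun t => by
      rw [mul_apply, mul_apply, eps_coord (by decide), tee_coord h2, tee_coord h2]
      fin_cases t <;> simp [eps_coord (show (2 : Fin 6) ≠ 3 by decide)])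
    (fun v hv => funext fun t => by
      rw [eps_coord (by decide), R_apply, n2, mul_div_cancel_left₀ _ h2]
      fin_cases t <;> simp [hf2, e_apply, dot_e, dotProduct_add, (hfix v hv).2] <;> ring)
  have ag : ∀ ρ : F, ρ * ρ = 1 → _ := fun ρ hρ => hS.axis hh hτ (tg ρ) (by rw [ng ρ hρ]; exact h2)
    (m := R (rt 0 1) * R (g ρ)) (hS.toOver.rel_root (by decide) (by decide) (by ring) hρ)
    (O_ext fun i => funext fun t => by
      have hc : ∀ v : Fin 6 → F, (R (g ρ) : O F 6).1 v = ![v 0, v 1, v 2, v 3, -ρ * v 5, -ρ * v 4] :=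
        fun v => funext fun t => by
          rw [R_apply, ng ρ hρ, mul_div_cancel_left₀ _ h2]
          fin_cases t <;> simp [hg, e_apply, dot_e, dotProduct_add]
          linear_combination (-(v 5)) * hρ
      rw [mul_apply, mul_apply, mul_apply, mul_apply, rt_coord h2 (by decide), hc, tee_coord h2, tee_coord h2]
      fin_cases t <;> simp [Equiv.swap_apply_def, hc, rt_coord h2 (show (0 : Fin 6) ≠ 1 by decide)])
    (fun v hv => funext fun t => by
      rw [mul_apply, rt_coord h2 (by decide), R_apply, ng ρ hρ, mul_div_cancel_left₀ _ h2]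
      fin_cases t <;> simp [Equiv.swap_apply_def, hg, e_apply, dot_e, dotProduct_add, (hfix v hv).1])
  set w : O F 6 := R (rt 0 2) * R (rt 1 3) with hw
  have hwH : w ∈ H := hS.toOver.rel_root (by decide) (by decide) (by ring) (by ring)
  have hwc : ∀ v, w.1 v = ![v 2, v 3, v 0, v 1, v 4, v 5] := fun v => funext fun t => by
    rw [hw, mul_apply, rt_coord h2 (by decide), rt_coord h2 (by decide)]
    fin_cases t <;> rfl
  obtain ⟨π, hπ⟩ := hS.axis_map hh hτ hwH (O_ext fun i => funext fun t => by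
    rw [mul_apply w tee, mul_apply tee w, hwc, tee_coord h2, tee_coord h2, hwc]; fin_cases t <;> simp)
  have wg : ∀ ρ, w.1 (g ρ) = g ρ := fun ρ => funext fun t => by
    rw [hwc]; fin_cases t <;> simp [hg, e_apply]
  have w1 : w.1 f1 = f2 := funext fun t => by rw [hwc]; fin_cases t <;> simp [hf1, hf2, e_apply]
  have w2 : w.1 f2 = f1 := funext fun t => by rw [hwc]; fin_cases t <;> simp [hf1, hf2, e_apply]
  set Y : (Fin 6 → F) → Fin 6 → F := fun f => (h⁻¹).1 f with hY
  have hYd : ∀ u v, Y u ⬝ᵥ Y v = u ⬝ᵥ v := fun u v => by simp only [hY]; rw [dot_map _ h2]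
  -- the two axes off the pairs are frame lines
  have hline : ∀ ρ, ρ * ρ = 1 → ∃ c : Fin 6, ∃ l : F, h.1 (e c) = l • g ρ := by
    intro ρ hρ
    rcases (ag ρ hρ).2.2 with hl | ⟨p, q, hpq, hsp, hpsq, hqsq⟩
    · exact hl
    exfalso
    set P : Finset (Fin 6) := {p, q} with hP
    have hPc : P.card = 2 := Finset.card_pair hpq
    have hsub : ∀ f, Y f 0 = 0 → Y f 1 = 0 → supp (Y f) ⊆ {2, 3, 4, 5} := fun f h0 h1 t ht => by
      rw [mem_supp] at ht
      fin_cases t
      · exact absurd h0 ht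
      · exact absurd h1 ht
      all_goals simp
    have hperp : ∀ f, g ρ ⬝ᵥ f = 0 → P ⊆ supp (Y f) ∨ Disjoint P (supp (Y f)) := by
      intro f hf
      rcases Finset.eq_empty_or_nonempty (P ∩ supp (Y f)) with h0 | ⟨t, ht⟩
      · exact Or.inr (Finset.disjoint_iff_inter_eq_empty.2 h0)
      refine Or.inl ?_
      rw [Finset.mem_inter, hP, Finset.mem_insert, Finset.mem_singleton] at ht
      rw [hP, Finset.insert_subset_iff, Finset.singleton_subset_iff]
      have ho : Y (g ρ) ⬝ᵥ Y f = 0 := by rw [hYd, hf]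
      rcases ht.1 with rfl | rfl
      · exact ⟨ht.2, orth_pair ho hsp hpq ht.2⟩
      · exact ⟨orth_pair ho (hsp.trans (Finset.pair_comm _ _)) hpq.symm ht.2, ht.2⟩
    have hsmall : ∀ f, (∃ c : Fin 6, ∃ l : F, h.1 (e c) = l • f) ∨ (∃ p q, p ≠ q ∧ supp (Y f) = {p, q} ∧
        2 * (Y f p * Y f p) = f ⬝ᵥ f ∧ 2 * (Y f q * Y f q) = f ⬝ᵥ f) →
        (supp (Y f)).card ≤ 2 := by
      rintro f (⟨c, l, hc⟩ | ⟨p', q', -, hs', -⟩)
      · have hl : l ≠ 0 := fun h0 => by
          have := self_map h (e c)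
          rw [hc, h0, zero_smul, ee] at this
          simp at this
        have hYf : Y f = l⁻¹ • e c := by
          have : Y (l • f) = e c := by rw [← hc, hY]; simp only; rw [← mul_apply, inv_mul_cancel, one_apply]
          rw [hY] at this ⊢
          simp only at this ⊢
          rw [map_smul] at this
          rw [← this, smul_smul, inv_mul_cancel₀ hl, one_smul]
        rw [hYf, supp_smul (inv_ne_zero hl), supp_e, Finset.card_singleton]; norm_num
      · rw [hs']; exact Finset.card_le_two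
    have o1 : g ρ ⬝ᵥ f1 = 0 := by simp [hg, hf1, dotProduct_add, dot_e, e_apply]
    have o2 : g ρ ⬝ᵥ f2 = 0 := by simp [hg, hf2, dotProduct_add, dot_e, e_apply]
    have oq : g ρ ⬝ᵥ g (-ρ) = 0 := by
      simp [hg, dotProduct_add, dot_e, e_apply]; linear_combination -hρ
    have hρ' : -ρ * -ρ = 1 := by rw [neg_mul_neg, hρ]
    have aq := ag (-ρ) hρ'
    have o12 : f1 ⬝ᵥ f2 = 0 := by simp [hf1, hf2, dotProduct_add, dot_e, e_apply]
    have o1q : f1 ⬝ᵥ g (-ρ) = 0 := by simp [hg, hf1, dotProduct_add, dot_e, e_apply]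
    have o2q : f2 ⬝ᵥ g (-ρ) = 0 := by simp [hg, hf2, dotProduct_add, dot_e, e_apply]
    have hPimg : P.image π = P := by rw [← hsp, ← hπ, wg]
    have hthree : supp (Y f1) ⊆ P → supp (Y f2) ⊆ P → False := fun s1 s2 =>
      no_three_in_two (T := P) (le_of_eq hPc) ![Y (g ρ), Y f1, Y f2]
        (fun i => by
          fin_cases i
          · exact hsp.le
          · exact s1
          · exact s2)
        (fun i => by fin_cases i <;> simp [hYd, ng ρ hρ, n1, n2, h2])
        (fun i j hij => by
          fin_cases i <;> fin_cases j <;> first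
            | exact absurd rfl hij
            | exact (hYd _ _).trans o1
            | exact (hYd _ _).trans o2
            | exact (hYd _ _).trans o12
            | exact (hYd _ _).trans ((dotProduct_comm _ _).trans o1)
            | exact (hYd _ _).trans ((dotProduct_comm _ _).trans o2)
            | exact (hYd _ _).trans ((dotProduct_comm _ _).trans o12))
    rcases hperp f1 o1 with c1 | c1
    · have e1 : P = supp (Y f1) := Finset.eq_of_subset_of_card_le c1 (by rw [hPc]; exact hsmall _ a1.2.2)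
      refine hthree e1.ge ?_
      simp only [hY] at e1 ⊢
      rw [← w1, hπ, ← e1, hPimg]
    rcases hperp f2 o2 with c2 | c2
    · have e2 : P = supp (Y f2) := Finset.eq_of_subset_of_card_le c2 (by rw [hPc]; exact hsmall _ a2.2.2)
      refine hthree ?_ e2.ge
      simp only [hY] at e2 ⊢
      rw [← w2, hπ, ← e2, hPimg]
    rcases hperp (g (-ρ)) oq with c3 | c3
    · have e3 : P = supp (Y (g (-ρ))) := Finset.eq_of_subset_of_card_le c3 (by rw [hPc]; exact hsmall _ aq.2.2)
      have hy2 : ∀ t ∈ P, Y (g (-ρ)) t * Y (g (-ρ)) t = 1 := by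
        intro t ht
        rcases aq.2.2 with hl | ⟨p', q', -, hs', hp', hq'⟩
        · exfalso
          obtain ⟨c, l, hc⟩ := hl
          have hl0 : l ≠ 0 := fun h0 => by
            have := self_map h (e c)
            rw [hc, h0, zero_smul, ee] at this
            simp at this
          have hsub' : supp (Y (g (-ρ))) ⊆ {c} := fun i hi => by
            rw [mem_supp] at hi
            rw [Finset.mem_singleton]
            by_contra hic
            have : Y (l • g (-ρ)) = e c := by rw [← hc, hY]; simp only; rw [← mul_apply, inv_mul_cancel, one_apply]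
            have h' := congrFun this i
            simp only [hY, map_smul, Pi.smul_apply, smul_eq_mul, e_apply, if_neg hic] at h'
            exact hi ((mul_eq_zero.1 h').resolve_left hl0)
          have := Finset.card_le_card (e3.le.trans hsub')
          rw [hPc] at this; simp at this
        · have : 2 * (Y (g (-ρ)) t * Y (g (-ρ)) t) = 2 := by
            rw [e3, hs', Finset.mem_insert, Finset.mem_singleton] at ht
            rcases ht with rfl | rfl
            · exact hp'.trans (ng _ hρ')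
            · exact hq'.trans (ng _ hρ')
          exact mul_left_cancel₀ h2 (this.trans (mul_one 2).symm)
      have hp1 : Y (g ρ) p * Y (g ρ) p = 1 :=
        mul_left_cancel₀ h2 (hpsq.trans ((ng _ hρ).trans (mul_one 2).symm))
      have hq1 := hy2 p (by simp [hP])
      set σ := -(Y (g ρ) p * Y (g (-ρ)) p) with hσ
      set v := Y (g ρ) + σ • Y (g (-ρ)) with hv
      have hvp : v p = 0 := by
        simp only [hv, hσ, Pi.add_apply, Pi.smul_apply, smul_eq_mul]
        linear_combination (-(Y (g ρ) p)) * hq1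
      have hσ1 : σ * σ = 1 := by
        rw [hσ]; linear_combination (Y (g (-ρ)) p * Y (g (-ρ)) p) * hp1 + hq1
      have hvs : supp v ⊆ {q} := fun i hi => by
        have h' := supp_add (Y (g ρ)) (σ • Y (g (-ρ))) hi
        rw [supp_smul (fun h0 => by simp [h0] at hσ1), ← e3, hsp, Finset.union_self, hP, Finset.mem_insert,
          Finset.mem_singleton] at h'
        rw [Finset.mem_singleton]
        rcases h' with rfl | h'
        · exact absurd hvp (mem_supp.1 hi)
        · exact h'
      have hvq : v = v q • e q := eq_smul_e fun i hi => not_mem_supp.1 fun h' => hi (Finset.mem_singleton.1 (hvs h'))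
      have himg : h.1 v = g ρ + σ • g (-ρ) := by
        simp only [hv, hY]
        rw [map_add, map_smul, ← mul_apply, ← mul_apply, mul_inv_cancel, one_apply, one_apply]
      have hhe : h.1 (e q) = (v q)⁻¹ • (g ρ + σ • g (-ρ)) := by
        have hq0 : v q ≠ 0 := fun h0 => by
          have h0' : h.1 v = 0 := by rw [hvq, h0, zero_smul, map_zero]
          rw [himg] at h0'
          have b4 := congrFun h0' 4
          have b5 := congrFun h0' 5
          simp [hg, e_apply] at b4 b5
          refine h2 ?_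
          linear_combination (ρ + 0) * b5 + b4 + (σ - 1) * hρ
        rw [← himg]
        have hve := congrArg h.1 hvq
        rw [map_smul] at hve
        rw [hve, smul_smul, inv_mul_cancel₀ hq0, one_smul]
      refine hmono (hS.mono_of_card hh (a := q) ?_)
      rw [hhe]
      rcases mul_self_eq_one_iff.1 hσ1 with h1 | h1
      · refine (Finset.card_le_card (t := {4}) fun i hi => ?_).trans (Finset.card_singleton _).le
        rw [mem_supp] at hi; rw [Finset.mem_singleton]
        by_contra hne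
        refine hi ?_
        fin_cases i <;> first | exact absurd rfl hne | (rw [h1]; simp [hg, e_apply])
      · refine (Finset.card_le_card (t := {5}) fun i hi => ?_).trans (Finset.card_singleton _).le
        rw [mem_supp] at hi; rw [Finset.mem_singleton]
        by_contra hne
        refine hi ?_
        fin_cases i <;> first | exact absurd rfl hne | (rw [h1]; simp [hg, e_apply])
    · have hc : (({2, 3, 4, 5} : Finset (Fin 6)) \ P).card ≤ 2 := by
        rw [Finset.card_sdiff_of_subset (hsp ▸ hsub _ (ag ρ hρ).1 (ag ρ hρ).2.1), hPc]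
        simp
      refine no_three_in_two hc ![Y f1, Y f2, Y (g (-ρ))] (fun i => ?_)
        (fun i => by fin_cases i <;> simp [hYd, ng _ hρ', n1, n2, h2])
        (fun i j hij => by
          fin_cases i <;> fin_cases j <;> first
            | exact absurd rfl hij
            | exact (hYd _ _).trans o12
            | exact (hYd _ _).trans o1q
            | exact (hYd _ _).trans o2q
            | exact (hYd _ _).trans ((dotProduct_comm _ _).trans o12)
            | exact (hYd _ _).trans ((dotProduct_comm _ _).trans o1q)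
            | exact (hYd _ _).trans ((dotProduct_comm _ _).trans o2q))
      fin_cases i
      · exact fun t ht => Finset.mem_sdiff.2 ⟨hsub _ a1.1 a1.2.1 ht, fun h' => Finset.disjoint_left.1 c1 h' ht⟩
      · exact fun t ht => Finset.mem_sdiff.2 ⟨hsub _ a2.1 a2.2.1 ht, fun h' => Finset.disjoint_left.1 c2 h' ht⟩
      · exact fun t ht => Finset.mem_sdiff.2 ⟨hsub _ aq.1 aq.2.1 ht, fun h' => Finset.disjoint_left.1 c3 h' ht⟩
  obtain ⟨c, l, hc⟩ := hline 1 (by ring)
  obtain ⟨d, l', hd⟩ := hline (-1) (by ring)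
  have hl : ∀ {x : Fin 6} {r : F} {f : Fin 6 → F}, h.1 (e x) = r • f → r ≠ 0 := fun {x} {r} {f} hx h0 => by
    have := self_map h (e x)
    rw [hx, h0, zero_smul, ee] at this
    simp at this
  have hcd : c ≠ d := by
    rintro rfl
    have h4 := congrFun (hc.symm.trans hd) 4
    have h5 := congrFun (hc.symm.trans hd) 5
    simp [hg, e_apply] at h4 h5
    exact hl hc ((mul_eq_zero.1 (show (2 : F) * l = 0 by linear_combination h4 + h5)).resolve_left h2)
  have hcd' : h * eps c d * h⁻¹ = eps 4 5 := by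
    rw [eps, show h * (R (e c) * R (e d)) * h⁻¹ = h * R (e c) * h⁻¹ * (h * R (e d) * h⁻¹) by group,
      R_conj, R_conj, hc, hd, R_smul (hl hc), R_smul (hl hd)]
    refine O_ext fun i => funext fun t => ?_
    rw [mul_apply, R_apply, R_apply, ng _ (by ring), ng _ (by ring), eps_coord (by decide),
      mul_div_cancel_left₀ _ h2, mul_div_cancel_left₀ _ h2]
    simp only [hg, dotProduct_add, dotProduct_smul, dot_e, smul_eq_mul, Pi.sub_apply, Pi.smul_apply,
      Pi.add_apply, e_apply]
    fin_cases t <;> simp <;> (try split_ifs) <;> ring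
  obtain ⟨m, hm, hmm, hmc⟩ := hS.toOver.conj_eps (show (4 : Fin 6) ≠ 5 by decide) hcd
  have hcomm : m * h * eps c d = eps c d * (m * h) := by
    conv_rhs => rw [← hmc, ← hcd']
    group
  have hmh := hS.comm_mono hcd (mul_mem hm hh) hcomm
  exact hmono (by simpa [← mul_assoc] using hmm.inv.mul hmh)

/-- Elements carrying the negation of a coordinate plane into the monomial part are monomial. -/
theorem Six.mono_of_eps (hS : Six H) {h : O F 6} (hh : h ∈ H) {a b : Fin 6} (hab : a ≠ b)
    (hm : Mono (h * eps a b * h⁻¹)) : Mono h := by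
  have h2 := hS.two
  have h4 : (4 : F) ≠ 0 := by rw [show (4 : F) = 2 * 2 by norm_num]; exact mul_ne_zero h2 h2
  set z := h * eps a b * h⁻¹ with hz
  have hzH : z ∈ H := mul_mem (mul_mem hh (hS.toOver.eps_mem a b)) (inv_mem hh)
  have hz2 : z * z = 1 := by
    rw [hz, show h * eps a b * h⁻¹ * (h * eps a b * h⁻¹) = h * (eps a b * eps a b) * h⁻¹ by group,
      eps_sq hab, mul_one, mul_inv_cancel]
  have hd : diagSum z = 2 := by rw [hz, diagSum_conj, diagSum_eps hab]
  obtain ⟨π, s, hs, hπ⟩ := hm.exists_perm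
  obtain ⟨m₁, hm₁, hmm₁, hc₁⟩ := hS.toOver.conj_eps (show (0 : Fin 6) ≠ 1 by decide) hab
  rcases hS.toOver.invol_cases hzH hm hz2 hs hπ with h1 | h1 | h1 | h1
  · exfalso
    rw [h1, diagSum_one] at hd
    exact h4 (by linear_combination hd)
  · exfalso
    rw [h1, show (neg6 : O F 6) = neg6 * 1 by rw [mul_one], diagSum_neg, diagSum_one] at hd
    exact mul_ne_zero (mul_ne_zero h2 h2) h2 (by linear_combination -hd)
  · rcases h1 with ⟨-, c, d, hcd, hc⟩ | ⟨-, m, hm', hmm, hc⟩ | ⟨-, m, hm', hmm, hc⟩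
    · obtain ⟨m₂, hm₂, hmm₂, hc₂⟩ := hS.toOver.conj_eps hcd hab
      have hcomm : m₂ * h * eps a b = eps a b * (m₂ * h) := by
        conv_rhs => rw [← hc₂, ← hc, hz]
        group
      simpa [← mul_assoc] using hmm₂.inv.mul (hS.comm_mono hab (mul_mem hm₂ hh) hcomm)
    · exfalso
      refine hS.not_conj_tee (h := m⁻¹ * h * m₁) (mul_mem (mul_mem (inv_mem hm') hh) hm₁) ?_
      rw [show m⁻¹ * h * m₁ * eps 0 1 * (m⁻¹ * h * m₁)⁻¹ = m⁻¹ * (h * (m₁ * eps 0 1 * m₁⁻¹) * h⁻¹) * m by group,
        hc₁, ← hz, ← hc]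
      group
    · exfalso
      refine hS.not_conj_uu (h := m⁻¹ * h * m₁) (mul_mem (mul_mem (inv_mem hm') hh) hm₁) ?_
      rw [show m⁻¹ * h * m₁ * eps 0 1 * (m⁻¹ * h * m₁)⁻¹ = m⁻¹ * (h * (m₁ * eps 0 1 * m₁⁻¹) * h⁻¹) * m by group,
        hc₁, ← hz, ← hc]
      group
  · exfalso
    have := h1.diagSum h2
    rw [diagSum_neg, hd] at this
    exact h4 (by linear_combination -this)

end CfsgLib.Geo.OFrame
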