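import Cfsg.Agent.Geo.FrameSix.Monomial
import Mathlib.LinearAlgebra.Trace

/-!
The monomial involutions in six coordinates, and their traces.
-/

set_option autoImplicit false
set_option linter.unusedSectionVars false

namespace CfsgLib.Geo.OFrame

open QuadraticMap CfsgLib.Forms CfsgLib.Quad Matrix

variable {F : Type*} [Field F] [Finite F] [DecidableEq F]

/-- The sum of the diagonal entries. -/
def diagSum (g : O F 6) : F := ∑ i, g.1 (e i) i

theorem diagSum_eq_trace (g : O F 6) : diagSum g = LinearMap.trace F (Fin 6 → F) g.1.toLinearMap := by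
  rw [LinearMap.trace_eq_matrix_trace F (Pi.basisFun F (Fin 6)), Matrix.trace, diagSum]
  refine Finset.sum_congr rfl fun i _ => ?_
  simp [LinearMap.toMatrix_apply, e]

theorem diagSum_mul_comm (g h : O F 6) : diagSum (g * h) = diagSum (h * g) := by
  rw [diagSum_eq_trace, diagSum_eq_trace]
  exact LinearMap.trace_mul_comm F g.1.toLinearMap h.1.toLinearMap

theorem diagSum_conj (g h : O F 6) : diagSum (g * h * g⁻¹) = diagSum h := by
  rw [diagSum_mul_comm, ← mul_assoc, inv_mul_cancel, one_mul]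

theorem diagSum_neg (g : O F 6) : diagSum (neg6 * g) = -diagSum g := by
  rw [diagSum, diagSum, ← Finset.sum_neg_distrib]
  refine Finset.sum_congr rfl fun i _ => ?_
  rw [mul_apply, neg6_apply, Pi.neg_apply]

theorem diagSum_pair {x y : Fin 6 → F} (hp : Pair x y) : diagSum (R x * R y) = 2 := by
  have hx : ∑ i, x i * x i = x ⬝ᵥ x := rfl
  have hy : ∑ i, y i * y i = y ⬝ᵥ y := rfl
  simp only [diagSum, hp.apply, Pi.sub_apply, Pi.smul_apply, e_apply, if_true, e_dot, smul_eq_mul]
  rw [Finset.sum_sub_distrib, Finset.sum_sub_distrib,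
    show ∑ i, 2 * x i / (x ⬝ᵥ x) * x i = 2 by
      rw [Finset.sum_congr rfl fun i _ => show 2 * x i / (x ⬝ᵥ x) * x i = 2 / (x ⬝ᵥ x) * (x i * x i) by ring,
        ← Finset.mul_sum, hx, div_mul_cancel₀ _ hp.left],
    show ∑ i, 2 * y i / (y ⬝ᵥ y) * y i = 2 by
      rw [Finset.sum_congr rfl fun i _ => show 2 * y i / (y ⬝ᵥ y) * y i = 2 / (y ⬝ᵥ y) * (y i * y i) by ring,
        ← Finset.mul_sum, hy, div_mul_cancel₀ _ hp.right]]
  simp
  ring

theorem pair_eps {a b : Fin 6} (hab : a ≠ b) : Pair (e (F := F) a) (e b) :=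
  ⟨by rw [ee]; exact one_ne_zero, by rw [ee]; exact one_ne_zero, ee_ne hab⟩

theorem diagSum_eps {a b : Fin 6} (hab : a ≠ b) : diagSum (eps (F := F) a b) = 2 :=
  diagSum_pair (pair_eps hab)

theorem diagSum_tee (h2 : (2 : F) ≠ 0) : diagSum (tee (F := F)) = 2 := by
  refine diagSum_pair ⟨?_, ?_, ?_⟩
  · rw [rt, (root_norm h2 (by decide) (by ring)).1]; exact h2
  · rw [rt, (root_norm h2 (by decide) (by ring)).1]; exact h2
  · simp [rt, add_dotProduct, dotProduct_add, ee_ne (show (0 : Fin 6) ≠ 2 by decide),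
      ee_ne (show (0 : Fin 6) ≠ 3 by decide), ee_ne (show (1 : Fin 6) ≠ 2 by decide),
      ee_ne (show (1 : Fin 6) ≠ 3 by decide)]

theorem diagSum_uu (h2 : (2 : F) ≠ 0) : diagSum (uu (F := F)) = 2 := by
  refine diagSum_pair ⟨?_, ?_, ?_⟩
  · rw [rt, (root_norm h2 (by decide) (by ring)).1]; exact h2
  · rw [ee]; exact one_ne_zero
  · simp [rt, dot_e, e_apply]

theorem diagSum_one : diagSum (1 : O F 6) = 6 := by simp [diagSum, one_apply, e_apply]

/-- The three kinds of monomial involutions with trace two, up to conjugacy. -/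
def Kind (H : Subgroup (O F 6)) (π : Equiv.Perm (Fin 6)) (z : O F 6) : Prop :=
  (π = 1 ∧ ∃ a b, a ≠ b ∧ z = eps a b) ∨
    (Equiv.Perm.sign π = 1 ∧ ∃ m ∈ H, Mono m ∧ m * tee * m⁻¹ = z) ∨
      (Equiv.Perm.sign π = -1 ∧ ∃ m ∈ H, Mono m ∧ m * uu * m⁻¹ = z)

variable {H : Subgroup (O F 6)}

theorem Kind.diagSum (h2 : (2 : F) ≠ 0) {π : Equiv.Perm (Fin 6)} {z : O F 6} (h : Kind H π z) :
    OFrame.diagSum z = 2 := by
  rcases h with ⟨-, a, b, hab, rfl⟩ | ⟨-, m, -, -, rfl⟩ | ⟨-, m, -, -, rfl⟩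
  · exact diagSum_eps hab
  · rw [diagSum_conj, diagSum_tee h2]
  · rw [diagSum_conj, diagSum_uu h2]

theorem perm_moves {π : Equiv.Perm (Fin 6)} (h : π ≠ 1) : ∃ a, π a ≠ a := by
  by_contra hall
  push Not at hall
  exact h (Equiv.ext hall)

set_option maxHeartbeats 1000000 in
/-- A monomial involution is trivial or one of the three kinds, up to the central negation. -/
theorem Over.invol_cases (hH : Over H) {z : O F 6} (hzH : z ∈ H) (hz : Mono z) (hz2 : z * z = 1)
    {π : Equiv.Perm (Fin 6)} {s : Fin 6 → F} (hs : ∀ i, s i * s i = 1)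
    (hπ : ∀ i, z.1 (e i) = s i • e (π i)) :
    z = 1 ∨ z = neg6 ∨ Kind H π z ∨ Kind H π (neg6 * z) := by
  classical
  have h2 := hH.two
  have hzc := hH.le hzH
  have hNc := hH.le hH.neg6_mem
  have hroot : ∀ {a b : Fin 6}, a ≠ b → ∀ {σ : F}, σ * σ = 1 →
      (e (F := F) a + σ • e b) ⬝ᵥ (e a + σ • e b) ≠ 0 := fun hab _ hσ => by
    rw [(root_norm h2 hab hσ).1]; exact h2
  have hnorm : ∀ {a b : Fin 6}, a ≠ b → ∀ {σ : F}, σ * σ = 1 →
      (e (F := F) a + σ • e b) ⬝ᵥ (e a + σ • e b) = 2 := fun hab _ hσ => (root_norm h2 hab hσ).1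
  have hdiag : ∀ {g : O F 6} {ρ : Equiv.Perm (Fin 6)} {r : Fin 6 → F}, (∀ i, r i * r i = 1) →
      (∀ i, g.1 (e i) = r i • e (ρ i)) → ρ = 1 → ∀ i, g.1 (e i) = e i ∨ g.1 (e i) = -e i := by
    intro g ρ r hr hg hρ i
    rw [hg, hρ, Equiv.Perm.one_apply]
    rcases mul_self_eq_one_iff.1 (hr i) with h | h
    · exact Or.inl (by rw [h, one_smul])
    · exact Or.inr (by rw [h, neg_one_smul])
  by_cases hπ1 : π = 1
  · obtain ⟨T, -, hT⟩ := exists_signs (hdiag hs hπ hπ1)
    have hev := hH.signs_even hzc hT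
    have hle := Finset.card_le_univ T
    rw [Fintype.card_fin] at hle
    obtain ⟨k, hk⟩ := hev
    have hk' : k ≤ 3 := by omega
    interval_cases k
    · refine Or.inl (O_ext fun i => funext fun t => ?_)
      rw [hT, Finset.card_eq_zero.1 hk, one_apply]; simp
    · obtain ⟨a, b, hab, rfl⟩ := Finset.card_eq_two.1 hk
      refine Or.inr (Or.inr (Or.inl (Or.inl ⟨hπ1, a, b, hab, O_ext fun i => funext fun t => ?_⟩)))
      rw [hT, eps_coord hab]
      simp
    · obtain ⟨a, b, hab, hc⟩ := Finset.card_eq_two.1 (show Tᶜ.card = 2 by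
        rw [Finset.card_compl, Fintype.card_fin]; omega)
      refine Or.inr (Or.inr (Or.inr (Or.inl ⟨hπ1, a, b, hab, O_ext fun i => funext fun t => ?_⟩)))
      have hmem : t ∈ T ↔ ¬ (t = a ∨ t = b) := by
        rw [← not_iff_not, ← Finset.mem_compl, hc, not_not]; simp
      rw [mul_apply, neg6_apply, Pi.neg_apply, hT, eps_coord hab, if_congr hmem rfl rfl]
      split_ifs <;> simp
    · refine Or.inr (Or.inl (O_ext fun i => funext fun t => ?_))
      rw [hT, neg6_apply, Finset.eq_univ_of_card T (by rw [Fintype.card_fin]; omega)]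
      simp
  obtain ⟨a, hb⟩ := perm_moves hπ1
  obtain ⟨hba, z₁, hz₁, h1a, h1b, h1i⟩ := hz.peel h2 hz2 hs hπ hb
  set b := π a with hbdef
  set σ := -(s a) with hσdef
  have hσ : σ * σ = 1 := by rw [hσdef, neg_mul_neg]; exact hs a
  clear_value σ
  set π₁ := Equiv.swap a b * π with hπ₁
  set s₁ : Fin 6 → F := fun i => if i = a ∨ i = b then 1 else s i with hs₁def
  have hs₁ : ∀ i, s₁ i * s₁ i = 1 := fun i => by
    simp only [hs₁def]; split_ifs <;> simp [hs i]
  have hπ₁a : π₁ a = a := by rw [hπ₁, Equiv.Perm.mul_apply, ← hbdef, Equiv.swap_apply_right]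
  have hπ₁b : π₁ b = b := by rw [hπ₁, Equiv.Perm.mul_apply, hba, Equiv.swap_apply_left]
  have hπ₁i : ∀ i, i ≠ a → i ≠ b → π₁ i = π i ∧ π i ≠ a ∧ π i ≠ b := fun i hia hib => by
    have h1 : π i ≠ a := fun h => hib (π.injective (h.trans hba.symm))
    have h3 : π i ≠ b := fun h => hia (π.injective (h.trans hbdef))
    exact ⟨by rw [hπ₁, Equiv.Perm.mul_apply, Equiv.swap_apply_of_ne_of_ne h1 h3], h1, h3⟩
  have hz₁π : ∀ i, z₁.1 (e i) = s₁ i • e (π₁ i) := fun i => by
    simp only [hs₁def]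
    by_cases hia : i = a
    · rw [hia, hπ₁a, h1a, if_pos (Or.inl rfl), one_smul]
    by_cases hib : i = b
    · rw [hib, hπ₁b, h1b, if_pos (Or.inr rfl), one_smul]
    rw [h1i i hia hib, hπ, (hπ₁i i hia hib).1, if_neg (by simp [hia, hib])]
  have hsign : Equiv.Perm.sign π = -Equiv.Perm.sign π₁ := by
    rw [hπ₁, map_mul, Equiv.Perm.sign_swap hb.symm, neg_one_mul, neg_neg]
  have hz₁sq : z₁ * z₁ = 1 := O_ext fun i => by
    rw [mul_apply, one_apply]
    by_cases hia : i = a
    · rw [hia, h1a, h1a]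
    by_cases hib : i = b
    · rw [hib, h1b, h1b]
    rw [h1i i hia hib, hπ, map_smul, h1i _ (hπ₁i i hia hib).2.1 (hπ₁i i hia hib).2.2, ← map_smul, ← hπ,
      ← mul_apply, hz2, one_apply]
  have hz₁m : Mono z₁ := fun i => by
    rw [hz₁π, supp_smul (fun h => by simpa [h] using hs₁ i), supp_e, Finset.card_singleton]
  by_cases hπ11 : π₁ = 1
  · obtain ⟨T, hTmem, hT⟩ := exists_signs (hdiag hs₁ hz₁π hπ11)
    have haT : a ∉ T := fun h => (hTmem a).1 h h1a
    have hbT : b ∉ T := fun h => (hTmem b).1 h h1b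
    have hodd : ¬ Even T.card := by
      rintro ⟨k, hk⟩
      obtain ⟨d, hd, hdv⟩ := hH.flips_even k T (by omega)
      have hRd : z = R (e a + σ • e b) * d := by
        rw [hz₁]; congr 1
        exact O_ext fun i => funext fun t => by rw [hT, hdv]
      refine single_not_mem h2 (hroot hb.symm hσ) ?_
      have h := mul_mem hzc (inv_mem (hH.le hd))
      rwa [hRd, mul_inv_cancel_right] at h
    have hle : T.card ≤ 4 := by
      refine (Finset.card_le_card (t := (Finset.univ.erase a).erase b) fun i hi => ?_).trans ?_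
      · simp only [Finset.mem_erase, Finset.mem_univ, and_true]
        exact ⟨fun h => hbT (h ▸ hi), fun h => haT (h ▸ hi)⟩
      · rw [Finset.card_erase_of_mem (by simp [hb]), Finset.card_erase_of_mem (by simp)]; simp
    have hs1 : Equiv.Perm.sign π = -1 := by rw [hsign, hπ11, map_one]
    obtain hT1 | hT3 : T.card = 1 ∨ T.card = 3 := by
      rcases Nat.not_even_iff_odd.1 hodd with ⟨k, hk⟩; omega
    · obtain ⟨c, rfl⟩ := Finset.card_eq_one.1 hT1
      simp only [Finset.mem_singleton] at haT hbT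
      obtain ⟨m, hm, hmm, hmc⟩ := hH.conj_uu hb.symm haT hbT hσ
      refine Or.inr (Or.inr (Or.inl (Or.inr (Or.inr ⟨hs1, m, hm, hmm, ?_⟩))))
      rw [hmc, hz₁]
      congr 1
      exact O_ext fun i => funext fun t => by rw [hT, R_e_coord']; simp
    · obtain ⟨c, hc⟩ := Finset.card_eq_one.1 (show (insert a (insert b T))ᶜ.card = 1 by
        rw [Finset.card_compl, Fintype.card_fin, Finset.card_insert_of_notMem (by simp [hb.symm, haT]),
          Finset.card_insert_of_notMem hbT, hT3])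
      have hmem : ∀ t, t = c ↔ t ≠ a ∧ t ≠ b ∧ t ∉ T := fun t => by
        rw [← Finset.mem_singleton, ← hc]; simp
      obtain ⟨hca, hcb, hcT⟩ := (hmem c).1 rfl
      obtain ⟨m, hm, hmm, hmc⟩ := hH.conj_uu hb.symm hca.symm hcb.symm
        (show (-σ) * -σ = 1 by rw [neg_mul_neg, hσ])
      refine Or.inr (Or.inr (Or.inr (Or.inr (Or.inr ⟨hs1, m, hm, hmm, ?_⟩))))
      rw [hmc, hz₁]
      refine O_ext fun i => funext fun t => ?_
      simp only [mul_apply, neg6_apply, Pi.neg_apply, R_apply, ee, div_one, hnorm hb.symm hσ,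
        hnorm hb.symm (show (-σ) * -σ = 1 by rw [neg_mul_neg, hσ]), mul_div_cancel_left₀ _ h2,
        dotProduct_add, dotProduct_smul, dot_e, smul_eq_mul, Pi.sub_apply, Pi.smul_apply,
        Pi.add_apply, hT, e_apply, hca.symm, hcb.symm, haT, hbT, if_false]
      rcases eq_or_ne t a with rfl | hta
      · simp [hb.symm, hca.symm, haT]; split_ifs <;> ring
      rcases eq_or_ne t b with rfl | htb
      · simp [hb, hcb.symm, hbT]; split_ifs <;> first | ring1 | linear_combination (2 : F) * hσ | linear_combination (-2 : F) * hσ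
      rcases eq_or_ne t c with rfl | htc
      · simp [hta, htb, hcT]; split_ifs <;> ring
      · have htT : t ∈ T := by by_contra h; exact htc ((hmem t).2 ⟨hta, htb, h⟩)
        simp [hta, htb, htc, htT]
  obtain ⟨c, hd⟩ := perm_moves hπ11
  obtain ⟨hdc, z₂, hz₂, h2c, h2d, h2i⟩ := hz₁m.peel h2 hz₁sq hs₁ hz₁π hd
  set d := π₁ c with hddef
  set τ := -(s₁ c) with hτdef
  have hτ : τ * τ = 1 := by rw [hτdef, neg_mul_neg]; exact hs₁ c
  clear_value τ
  have hca : c ≠ a := fun h => hd (by rw [hddef, h, hπ₁a])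
  have hcb : c ≠ b := fun h => hd (by rw [hddef, h, hπ₁b])
  have hda : d ≠ a := fun h => hca (π₁.injective (h.trans hπ₁a.symm))
  have hdb : d ≠ b := fun h => hcb (π₁.injective (h.trans hπ₁b.symm))
  have hpairc : R (e (F := F) a + σ • e b) * R (e c + τ • e d) ∈ commutator (O F 6) :=
    (pair_mem_iff h2 (hroot hb.symm hσ) (hroot hd.symm hτ)).2
      (by rw [hnorm hb.symm hσ, hnorm hd.symm hτ]; exact IsSquare.mul_self _)
  have hzz : z = R (e a + σ • e b) * R (e c + τ • e d) * z₂ := by rw [hz₁, hz₂, mul_assoc]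
  by_cases hall : ∀ i, i ≠ a → i ≠ b → i ≠ c → i ≠ d → π₁ i = i
  · have hfix : ∀ i, z₂.1 (e i) = e i ∨ z₂.1 (e i) = -e i := fun i => by
      by_cases hia : i = a
      · left; rw [hia, h2i a hca.symm hda.symm, h1a]
      by_cases hib : i = b
      · left; rw [hib, h2i b hcb.symm hdb.symm, h1b]
      by_cases hic : i = c
      · left; rw [hic, h2c]
      by_cases hid : i = d
      · left; rw [hid, h2d]
      rw [h2i i hic hid, hz₁π, hall i hia hib hic hid]
      rcases mul_self_eq_one_iff.1 (hs₁ i) with h | h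
      · exact Or.inl (by rw [h, one_smul])
      · exact Or.inr (by rw [h, neg_one_smul])
    obtain ⟨T, hTmem, hT⟩ := exists_signs hfix
    have hnT : a ∉ T ∧ b ∉ T ∧ c ∉ T ∧ d ∉ T := by
      refine ⟨fun h => (hTmem a).1 h ?_, fun h => (hTmem b).1 h ?_, fun h => (hTmem c).1 h h2c,
        fun h => (hTmem d).1 h h2d⟩
      · rw [h2i a hca.symm hda.symm, h1a]
      · rw [h2i b hcb.symm hdb.symm, h1b]
    have hev := hH.signs_even (g := z₂) (by
      have h := mul_mem (inv_mem hpairc) hzc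
      rwa [hzz, inv_mul_cancel_left] at h) hT
    have hswap : π₁ = Equiv.swap c d := Equiv.ext fun i => by
      by_cases hic : i = c
      · rw [hic, Equiv.swap_apply_left]
      by_cases hid : i = d
      · rw [hid, Equiv.swap_apply_right]; exact hdc
      rw [Equiv.swap_apply_of_ne_of_ne hic hid]
      by_cases hia : i = a
      · rw [hia, hπ₁a]
      by_cases hib : i = b
      · rw [hib, hπ₁b]
      exact hall i hia hib hic hid
    have hs1 : Equiv.Perm.sign π = 1 := by rw [hsign, hswap, Equiv.Perm.sign_swap hd.symm, neg_neg]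
    obtain ⟨k, hk⟩ := hev
    have hle : T.card ≤ 2 := by
      refine (Finset.card_le_card (t := ({a, b, c, d} : Finset (Fin 6))ᶜ) fun i hi => ?_).trans ?_
      · simp only [Finset.mem_compl, Finset.mem_insert, Finset.mem_singleton, not_or]
        exact ⟨fun h => hnT.1 (h ▸ hi), fun h => hnT.2.1 (h ▸ hi), fun h => hnT.2.2.1 (h ▸ hi),
          fun h => hnT.2.2.2 (h ▸ hi)⟩
      · rw [Finset.card_compl, Fintype.card_fin, Finset.card_insert_of_notMem (by simp [hb.symm, hca.symm, hda.symm]),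
          Finset.card_insert_of_notMem (by simp [hcb.symm, hdb.symm]), Finset.card_pair hd.symm]
    obtain hT0 | hT2 : T.card = 0 ∨ T.card = 2 := by omega
    · obtain ⟨m, hm, hmm, hmc⟩ := hH.conj_tee hb.symm hca.symm hda.symm hcb.symm hdb.symm hd.symm hσ hτ
      refine Or.inr (Or.inr (Or.inl (Or.inr (Or.inl ⟨hs1, m, hm, hmm, ?_⟩))))
      rw [hmc, hzz, show z₂ = 1 from O_ext fun i => funext fun t => by
        rw [hT, Finset.card_eq_zero.1 hT0, one_apply]; simp, mul_one]
    · obtain ⟨m, hm, hmm, hmc⟩ := hH.conj_tee hb.symm hca.symm hda.symm hcb.symm hdb.symm hd.symm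
        (show (-σ) * -σ = 1 by rw [neg_mul_neg, hσ]) (show (-τ) * -τ = 1 by rw [neg_mul_neg, hτ])
      refine Or.inr (Or.inr (Or.inr (Or.inr (Or.inl ⟨hs1, m, hm, hmm, ?_⟩))))
      rw [hmc, hzz]
      have hTeq : T = ({a, b, c, d} : Finset (Fin 6))ᶜ := Finset.eq_of_subset_of_card_le (fun i hi => by
        simp only [Finset.mem_compl, Finset.mem_insert, Finset.mem_singleton, not_or]
        exact ⟨fun h => hnT.1 (h ▸ hi), fun h => hnT.2.1 (h ▸ hi), fun h => hnT.2.2.1 (h ▸ hi),
          fun h => hnT.2.2.2 (h ▸ hi)⟩) (by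
        rw [hT2, Finset.card_compl, Fintype.card_fin, Finset.card_insert_of_notMem (by simp [hb.symm, hca.symm, hda.symm]),
          Finset.card_insert_of_notMem (by simp [hcb.symm, hdb.symm]), Finset.card_pair hd.symm])
      refine O_ext fun i => funext fun t => ?_
      simp only [mul_apply, neg6_apply, Pi.neg_apply, R_apply, hnorm hb.symm hσ, hnorm hd.symm hτ,
        hnorm hb.symm (show (-σ) * -σ = 1 by rw [neg_mul_neg, hσ]),
        hnorm hd.symm (show (-τ) * -τ = 1 by rw [neg_mul_neg, hτ]), mul_div_cancel_left₀ _ h2,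
        dotProduct_add, dotProduct_smul, dot_e, smul_eq_mul, Pi.sub_apply, Pi.smul_apply, Pi.add_apply,
        hT, hTeq, Finset.mem_compl, Finset.mem_insert, Finset.mem_singleton, e_apply]
      by_cases hta : t = a
      · subst hta
        simp [hb, hb.symm, hca, hca.symm, hcb, hcb.symm, hda, hda.symm, hdb, hdb.symm, hd, hd.symm]
        split_ifs <;> ring
      by_cases htb : t = b
      · subst htb
        simp [hb, hb.symm, hca, hca.symm, hcb, hcb.symm, hda, hda.symm, hdb, hdb.symm, hd, hd.symm]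
        split_ifs <;> first | ring1 | linear_combination (2 : F) * hσ | linear_combination (-2 : F) * hσ
      by_cases htc : t = c
      · subst htc
        simp [hta, htb, hb, hb.symm, hca, hca.symm, hcb, hcb.symm, hda, hda.symm, hdb, hdb.symm, hd, hd.symm]
        split_ifs <;> ring
      by_cases htd : t = d
      · subst htd
        simp [hta, htb, htc, hb, hb.symm, hca, hca.symm, hcb, hcb.symm, hda, hda.symm, hdb, hdb.symm, hd, hd.symm]
        split_ifs <;> first | ring1 | linear_combination (2 : F) * hτ | linear_combination (-2 : F) * hτ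
      · simp [hta, htb, htc, htd]
  · exfalso
    push Not at hall
    obtain ⟨x, hxa, hxb, hxc, hxd, hy⟩ := hall
    set π₂ := Equiv.swap c d * π₁ with hπ₂
    have hπ₂i : ∀ i, i ≠ c → i ≠ d → π₂ i = π₁ i ∧ π₁ i ≠ c ∧ π₁ i ≠ d := fun i hic hid => by
      have h1 : π₁ i ≠ c := fun h => hid (π₁.injective (h.trans hdc.symm))
      have h3 : π₁ i ≠ d := fun h => hic (π₁.injective (h.trans hddef))
      exact ⟨by rw [hπ₂, Equiv.Perm.mul_apply, Equiv.swap_apply_of_ne_of_ne h1 h3], h1, h3⟩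
    set s₂ : Fin 6 → F := fun i => if i = c ∨ i = d then 1 else s₁ i with hs₂def
    have hs₂ : ∀ i, s₂ i * s₂ i = 1 := fun i => by simp only [hs₂def]; split_ifs <;> simp [hs₁ i]
    have hz₂π : ∀ i, z₂.1 (e i) = s₂ i • e (π₂ i) := fun i => by
      simp only [hs₂def]
      by_cases hic : i = c
      · rw [hic, h2c, hπ₂, Equiv.Perm.mul_apply, ← hddef, Equiv.swap_apply_right, if_pos (Or.inl rfl), one_smul]
      by_cases hid : i = d
      · rw [hid, h2d, hπ₂, Equiv.Perm.mul_apply, hdc, Equiv.swap_apply_left, if_pos (Or.inr rfl), one_smul]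
      rw [h2i i hic hid, hz₁π, (hπ₂i i hic hid).1, if_neg (by simp [hic, hid])]
    have hz₂sq : z₂ * z₂ = 1 := O_ext fun i => by
      rw [mul_apply, one_apply]
      by_cases hic : i = c
      · rw [hic, h2c, h2c]
      by_cases hid : i = d
      · rw [hid, h2d, h2d]
      rw [h2i i hic hid, hz₁π, map_smul, h2i _ (hπ₂i i hic hid).2.1 (hπ₂i i hic hid).2.2, ← map_smul,
        ← hz₁π, ← mul_apply, hz₁sq, one_apply]
    have hz₂m : Mono z₂ := fun i => by
      rw [hz₂π, supp_smul (fun h => by simpa [h] using hs₂ i), supp_e, Finset.card_singleton]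
    obtain ⟨hyx, z₃, hz₃, h3x, h3y, h3i⟩ := hz₂m.peel h2 hz₂sq hs₂ hz₂π (a := x)
      (by rw [(hπ₂i x hxc hxd).1]; exact hy)
    rw [(hπ₂i x hxc hxd).1] at hyx hz₃ h3y h3i
    set y := π₁ x with hydef
    have hya : y ≠ a := fun h => hxa (π₁.injective (h.trans hπ₁a.symm))
    have hyb : y ≠ b := fun h => hxb (π₁.injective (h.trans hπ₁b.symm))
    obtain ⟨-, hyc, hyd⟩ := hπ₂i x hxc hxd
    rw [← hydef] at hyc hyd
    have hcov : ∀ i, i = a ∨ i = b ∨ i = c ∨ i = d ∨ i = x ∨ i = y := fun i => by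
      by_contra h
      push Not at h
      have : ({i, a, b, c, d, x, y} : Finset (Fin 6)).card = 7 := by
        rw [Finset.card_insert_of_notMem (by simp [h.1, h.2.1, h.2.2.1, h.2.2.2.1, h.2.2.2.2.1, h.2.2.2.2.2]),
          Finset.card_insert_of_notMem (by simp [hb.symm, hca.symm, hda.symm, hxa.symm, hya.symm]),
          Finset.card_insert_of_notMem (by simp [hcb.symm, hdb.symm, hxb.symm, hyb.symm]),
          Finset.card_insert_of_notMem (by simp [hd.symm, hxc.symm, hyc.symm]),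
          Finset.card_insert_of_notMem (by simp [hxd.symm, hyd.symm]), Finset.card_pair hy.symm]
      have := Finset.card_le_univ ({i, a, b, c, d, x, y} : Finset (Fin 6))
      rw [Fintype.card_fin] at this
      omega
    have hone : z₃ = 1 := O_ext fun i => by
      rw [one_apply]
      rcases hcov i with rfl | rfl | rfl | rfl | rfl | rfl
      · rw [h3i _ hxa.symm hya.symm, h2i _ hca.symm hda.symm, h1a]
      · rw [h3i _ hxb.symm hyb.symm, h2i _ hcb.symm hdb.symm, h1b]
      · rw [h3i _ hxc.symm hyc.symm, h2c]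
      · rw [h3i _ hxd.symm hyd.symm, h2d]
      · exact h3x
      · exact h3y
    rw [hz₃, hone, mul_one] at hzz
    have h := mul_mem (inv_mem hpairc) hzc
    rw [hzz, inv_mul_cancel_left] at h
    exact single_not_mem h2 (hroot hy.symm (by rw [neg_mul_neg]; exact hs₂ x)) h

end CfsgLib.Geo.OFrame
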