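import Cfsg.Agent.Geo.FrameSix.Cent

/-!
Six coordinates over a prime field: the monomial part of the commutator subgroup is maximal.
-/

set_option autoImplicit false
set_option linter.unusedSectionVars false

namespace CfsgLib.Geo.OFrame

open QuadraticMap CfsgLib.Forms CfsgLib.Quad Matrix

variable {F : Type*} [Field F] [Finite F] [DecidableEq F] {H K : Subgroup (O F 6)}

/-- The conjugates of the interchange in the even part are monomial. -/
theorem Core.tee_conj_mono (hC : Core H K) {k : O F 6} (hk : k ∈ K) : Mono (k * tee * k⁻¹) := by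
  have h2 := hC.six.two
  have h4 : (4 : F) ≠ 0 := by rw [show (4 : F) = 2 * 2 by norm_num]; exact mul_ne_zero h2 h2
  have hO := hC.six.toOver
  set x : O F 6 := eps 0 1 with hx
  set y := k * tee * k⁻¹ with hy
  have htH : (tee : O F 6) ∈ H := hO.rel_root (by decide) (by decide) (by ring) (by ring)
  have htK : (tee : O F 6) ∈ K := hC.mem _ htH (evenMono_tee h2)
  have hxK : x ∈ K := hC.mem _ (hO.eps_mem 0 1) (evenMono_eps (by decide))
  have hyK : y ∈ K := mul_mem (mul_mem hk htK) (inv_mem hk)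
  have hxx : x * x = 1 := eps_sq (by decide)
  have htt : (tee : O F 6) * tee = 1 := O_ext fun i => funext fun t => by
    rw [mul_apply, tee_coord h2, tee_coord h2, one_apply]
    fin_cases t <;> simp
  have hyy : y * y = 1 := by
    rw [hy, show k * tee * k⁻¹ * (k * tee * k⁻¹) = k * (tee * tee) * k⁻¹ by group, htt, mul_one, mul_inv_cancel]
  have hxH : x ∈ H := hC.le hxK
  have hyH : y ∈ H := hC.le hyK
  have hdx : diagSum x = 2 := diagSum_eps (by decide)
  have hdy : diagSum y = 2 := by rw [hy, diagSum_conj, diagSum_tee h2]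
  -- not conjugate
  have hnc : ∀ g : ↥H, g * ⟨x, hxH⟩ * g⁻¹ ≠ ⟨y, hyH⟩ := by
    intro g hg
    have hg' : (g : O F 6) * x * (g : O F 6)⁻¹ = y := congrArg Subtype.val hg
    refine hC.six.not_conj_tee (h := k⁻¹ * (g : O F 6)) (mul_mem (inv_mem (hC.le hk)) g.2) ?_
    rw [show k⁻¹ * (g : O F 6) * x * (k⁻¹ * (g : O F 6))⁻¹ = k⁻¹ * ((g : O F 6) * x * (g : O F 6)⁻¹) * k by group,
      hg', hy]
    group
  obtain ⟨m, hne, hsq, hcx, hcy⟩ := exists_central_involution (a := (⟨x, hxH⟩ : ↥H)) (b := ⟨y, hyH⟩)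
    (Subtype.ext hxx) (Subtype.ext hyy) hnc
  set z : O F 6 := (x * y) ^ m with hz
  have hz1 : z ≠ 1 := fun h => hne (Subtype.ext (by simpa using h))
  have hzz : z * z = 1 := by simpa using congrArg Subtype.val hsq
  have hzx : z * x = x * z := by simpa using congrArg Subtype.val hcx.eq
  have hzy : z * y = y * z := by simpa using congrArg Subtype.val hcy.eq
  have hzK : z ∈ K := pow_mem (mul_mem hxK hyK) m
  have hara : ∀ j : ℕ, x * (x * y) ^ j * x = ((x * y) ^ j)⁻¹ := fun j => by
    induction j with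
    | zero => simp [hxx]
    | succ j ih =>
      have h1 : x * (x * y) * x = (x * y)⁻¹ := by
        rw [← mul_assoc x x y, hxx, one_mul, _root_.mul_inv_rev, inv_eq_of_mul_eq_one_right hxx,
          inv_eq_of_mul_eq_one_right hyy]
      calc x * (x * y) ^ (j + 1) * x = (x * (x * y) ^ j * x) * (x * (x * y) * x) := by
            rw [pow_succ]; simp only [mul_assoc, ← mul_assoc x x, hxx, one_mul]
        _ = ((x * y) ^ j)⁻¹ * (x * y)⁻¹ := by rw [ih, h1]
        _ = ((x * y) ^ (j + 1))⁻¹ := by rw [← _root_.mul_inv_rev, ← pow_succ']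
  -- the central negation does not occur
  have hzN : z ≠ neg6 := by
    intro hzn
    set r := x * y with hr
    rcases Nat.even_or_odd' m with ⟨j, hj | hj⟩
    · have h1 : r ^ j * x * (r ^ j)⁻¹ = neg6 * x := by
        rw [← hara j, show r ^ j * x * (x * r ^ j * x) = r ^ j * (x * x) * r ^ j * x by simp only [mul_assoc],
          hxx, mul_one, ← pow_add, ← two_mul, ← hj, ← hz, hzn]
      have h3 := diagSum_conj (r ^ j) x
      rw [h1, diagSum_neg, hdx] at h3
      exact h4 (by linear_combination -h3)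
    · have h1 : (r ^ j)⁻¹ * y * r ^ j = neg6 * x := by
        have hy' : y = x * r := by rw [hr, ← mul_assoc, hxx, one_mul]
        rw [← hara j, hy', show x * r ^ j * x * (x * r) * r ^ j = x * (r ^ j * (x * x) * r * r ^ j) by
          simp only [mul_assoc], hxx, mul_one, ← pow_succ, ← pow_add, show j + 1 + j = m by omega, ← hz,
          hzn, neg6_comm]
      have h3 := diagSum_conj ((r ^ j)⁻¹) y
      rw [inv_inv, h1, diagSum_neg, hdx, hdy] at h3
      exact h4 (by linear_combination -h3)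
  have hzmono : Mono z := hC.six.comm_mono (show (0 : Fin 6) ≠ 1 by decide) (hC.le hzK) hzx
  obtain ⟨π, s, hπs, hs, hπ⟩ := hC.even z hzK hzmono
  -- an element commuting with a conjugate of the standard involutions
  have hfin : ∀ w : O F 6, (∀ v, w * v = v * w ↔ z * v = v * z) → Kind H π w → Mono y := by
    intro w hw hk'
    have hwy : w * y = y * w := (hw y).2 hzy
    rcases hk' with ⟨-, a, b, hab, rfl⟩ | ⟨-, g, hg, hgm, rfl⟩ | ⟨hbad, -⟩
    · exact hC.six.comm_mono hab hyH hwy.symm
    · have hl : g⁻¹ * y * g ∈ K := by simpa using hC.conj _ (inv_mem hg) _ hyK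
      have hlm := hC.cent_mono hl (by
        calc g⁻¹ * y * g * tee = g⁻¹ * (y * (g * tee * g⁻¹)) * g := by group
          _ = g⁻¹ * (g * tee * g⁻¹ * y) * g := by rw [hwy]
          _ = tee * (g⁻¹ * y * g) := by group)
      have := (hgm.mul hlm).mul hgm.inv
      rwa [show g * (g⁻¹ * y * g) * g⁻¹ = y by group] at this
    · rw [hπs] at hbad
      exact absurd hbad (by decide)
  rcases hO.invol_cases (hC.le hzK) hzmono hzz hs hπ with h | h | h | h
  · exact absurd h hz1
  · exact absurd h hzN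
  · exact hfin z (fun v => Iff.rfl) h
  · refine hfin _ (fun v => ?_) h
    constructor
    · intro hv
      rw [mul_assoc, ← mul_assoc v, ← neg6_comm v, mul_assoc] at hv
      exact mul_left_cancel hv
    · intro hv
      rw [mul_assoc, hv, ← mul_assoc, ← mul_assoc, neg6_comm v]

/-- The even part is monomial. -/
theorem Core.mono (hC : Core H K) {k : O F 6} (hk : k ∈ K) : Mono k := by
  have h2 := hC.six.two
  have hO := hC.six.toOver
  obtain ⟨m, hm, hmm, hmc⟩ := hO.conj_tee (show (0 : Fin 6) ≠ 1 by decide) (show (0 : Fin 6) ≠ 2 by decide)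
    (show (0 : Fin 6) ≠ 3 by decide) (show (1 : Fin 6) ≠ 2 by decide) (show (1 : Fin 6) ≠ 3 by decide)
    (show (2 : Fin 6) ≠ 3 by decide) (show (1 : F) * 1 = 1 by ring) (show (1 : F) * 1 = 1 by ring)
  set t' := R (e (F := F) (0 : Fin 6) + (1 : F) • e 1) * R (e 2 + (1 : F) • e 3) with ht'
  have h1 : (tee : O F 6) * t' = neg6 * eps 4 5 := O_ext fun i => funext fun t => by
    simp only [ht', mul_apply, neg6_apply, tee_coord h2, Pi.neg_apply]
    rw [eps_coord (show (4 : Fin 6) ≠ 5 by decide)]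
    simp only [root_coord h2 (show (0 : Fin 6) ≠ 1 by decide) (show (1 : F) * 1 = 1 by ring),
      root_coord h2 (show (2 : Fin 6) ≠ 3 by decide) (show (1 : F) * 1 = 1 by ring)]
    fin_cases t <;> simp
  have hk' : m⁻¹ * k * m ∈ K := by simpa using hC.conj _ (inv_mem hm) _ hk
  have h3 : Mono (k * t' * k⁻¹) := by
    have := (hmm.mul (hC.tee_conj_mono hk')).mul hmm.inv
    rw [← hmc]
    rwa [show m * (m⁻¹ * k * m * tee * (m⁻¹ * k * m)⁻¹) * m⁻¹ = k * (m * tee * m⁻¹) * k⁻¹ by group] at this
  have h5 : Mono (neg6 * (k * eps 4 5 * k⁻¹)) := by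
    rw [show neg6 * (k * eps 4 5 * k⁻¹) = k * (neg6 * eps 4 5) * k⁻¹ by
      simp only [← mul_assoc, neg6_comm k], ← h1,
      show k * (tee * t') * k⁻¹ = k * tee * k⁻¹ * (k * t' * k⁻¹) by group]
    exact (hC.tee_conj_mono hk).mul h3
  refine hC.six.mono_of_eps (hC.le hk) (show (4 : Fin 6) ≠ 5 by decide) ?_
  have := (evenMono_neg6 (F := F)).mono.mul h5
  rwa [← mul_assoc, neg6_sq, one_mul] at this

/-- An overgroup in which the stabilisers of frame vectors are monomial is monomial. -/
theorem Six.mono (hS : Six H) {g : O F 6} (hg : g ∈ H) : Mono g := by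
  obtain ⟨K, hC⟩ := hS.exists_core
  exact hS.mono_of_eps hg (show (0 : Fin 6) ≠ 1 by decide)
    (hC.mono (hC.conj g hg _ (hC.mem _ (hS.toOver.eps_mem 0 1) (evenMono_eps (by decide)))))

/-- A proper overgroup consists of monomial elements. -/
theorem frame_key_six (p : ℕ) [Fact p.Prime] [CharP F p] (hcard : Nat.card F = p) (hH : Over H)
    {g : O F 6} (hg : g ∈ H) (hgm : ¬ Mono g) : H = commutator (O F 6) := by
  by_contra hne
  exact hgm ((six_of_ne p hcard hH hne).mono hg)

/-- The monomial part is maximal. -/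
theorem monoSub_maximal_six (p : ℕ) [Fact p.Prime] [CharP F p] (hcard : Nat.card F = p) (h2 : (2 : F) ≠ 0) :
    Cfsg.Geo.IsMaximalIn (commutator (O F 6)) (monoSub F 6 ⊓ commutator (O F 6)) := by
  refine ⟨lt_of_le_of_ne inf_le_right fun h => ?_, fun M hM hMK => ?_⟩
  · obtain ⟨g, hg, hgm⟩ := exists_not_mono_five (F := F) (n := 6) p h2 (by omega)
    exact hgm ((h.ge hg).1)
  · by_cases h : M ≤ monoSub F 6
    · exact Or.inl (le_antisymm (le_inf h hMK) hM)
    · obtain ⟨g, hg, hgm⟩ := SetLike.not_le_iff_exists.1 h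
      exact Or.inr (frame_key_six p hcard ⟨h2, hMK, fun g hg hgm => hM ⟨hgm, hg⟩⟩ hg hgm)

end CfsgLib.Geo.OFrame
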