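import Cfsg.Agent.Geo.FrameSix.Base
import Mathlib.GroupTheory.Perm.Sign

/-!
Monomial elements of an overgroup in six coordinates, and the monomial involutions.
-/

set_option autoImplicit false
set_option linter.unusedSectionVars false

namespace CfsgLib.Geo.OFrame

open QuadraticMap CfsgLib.Forms CfsgLib.Quad Matrix

variable {F : Type*} [Field F] [Finite F] [DecidableEq F]

/-- The permutation and signs of a monomial element. -/
theorem Mono.exists_perm {n : ℕ} {g : O F n} (hg : Mono g) :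
    ∃ π : Equiv.Perm (Fin n), ∃ s : Fin n → F, (∀ a, s a * s a = 1) ∧ ∀ a, g.1 (e a) = s a • e (π a) := by
  choose π s hs hπ using fun a => hg.image a
  have hbij : Function.Bijective π := Finite.injective_iff_bijective.1 fun a a' h =>
    Mono.inj (s' := s a') (hs a) (hπ a) ((hπ a').trans (by rw [h]))
  exact ⟨Equiv.ofBijective π hbij, s, hs, hπ⟩

/-- The image of a vector under a monomial element. -/
theorem mono_apply_coord {n : ℕ} {g : O F n} {π : Equiv.Perm (Fin n)} {s : Fin n → F}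
    (hg : ∀ a, g.1 (e a) = s a • e (π a)) (v : Fin n → F) (a : Fin n) : g.1 v (π a) = v a * s a := by
  conv_lhs => rw [← sum_e v, map_sum]
  rw [Finset.sum_apply, Finset.sum_eq_single a]
  · rw [map_smul, hg, Pi.smul_apply, Pi.smul_apply, e_apply, if_pos rfl, smul_eq_mul, smul_eq_mul, mul_one]
  · intro b _ hb
    rw [map_smul, hg, Pi.smul_apply, Pi.smul_apply, e_apply, if_neg fun h => hb (π.injective h).symm]
    simp
  · simp

/-- The root `e a - e b`. -/
def rt (a b : Fin 6) : Fin 6 → F := e a + (-1 : F) • e b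

theorem rt_coord (h2 : (2 : F) ≠ 0) {a b : Fin 6} (hab : a ≠ b) (v : Fin 6 → F) (t : Fin 6) :
    (R (rt a b) : O F 6).1 v t = v (Equiv.swap a b t) := R_root_coord h2 hab v t

/-- The permutation of the coordinates interchanging two pairs. -/
noncomputable def tee : O F 6 := R (rt 0 1) * R (rt 2 3)

/-- The interchange of one pair with the negation of one further coordinate. -/
noncomputable def uu : O F 6 := R (rt 0 1) * R (e 2)

/-- The negation of all coordinates. -/
noncomputable def neg6 : O F 6 := eps 0 1 * eps 2 3 * eps 4 5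

theorem neg6_apply (v : Fin 6 → F) : (neg6 : O F 6).1 v = -v := funext fun t => by
  rw [neg6, mul_apply, mul_apply, eps_coord (by decide), eps_coord (by decide), eps_coord (by decide)]
  fin_cases t <;> simp

theorem neg6_comm (g : O F 6) : neg6 * g = g * neg6 := O_ext fun a => by
  rw [mul_apply, mul_apply, neg6_apply, neg6_apply, map_neg]

theorem neg6_sq : (neg6 : O F 6) * neg6 = 1 := O_ext fun a => by
  rw [mul_apply, neg6_apply, neg6_apply, neg_neg, one_apply]

variable {H : Subgroup (O F 6)}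

theorem Over.neg6_mem (hH : Over H) : (neg6 : O F 6) ∈ H :=
  mul_mem (mul_mem (hH.eps_mem _ _) (hH.eps_mem _ _)) (hH.eps_mem _ _)

/-- Permutations in the overgroup, up to one interchange. -/
theorem Over.exists_pure (hH : Over H) (π : Equiv.Perm (Fin 6)) :
    ∃ g : O F 6, (∀ a, g.1 (e a) = e (π a)) ∧ (Equiv.Perm.sign π = 1 → g ∈ H) ∧
      (Equiv.Perm.sign π = -1 → R (rt 0 1) * g ∈ H) := by
  have h2 := hH.two
  induction π using Equiv.Perm.swap_induction_on with
  | one => exact ⟨1, fun a => rfl, fun _ => one_mem _, fun h => absurd h (by simp)⟩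
  | swap_mul π x y hxy ih =>
    obtain ⟨g, hg, h1, hm⟩ := ih
    refine ⟨R (rt x y) * g, fun a => funext fun t => ?_, fun hs => ?_, fun hs => ?_⟩
    · rw [mul_apply, hg, rt_coord h2 hxy, e_apply, e_apply, Equiv.Perm.mul_apply]
      exact if_congr Equiv.swap_apply_eq_iff rfl rfl
    · rw [map_mul, Equiv.Perm.sign_swap hxy, neg_one_mul, neg_eq_iff_eq_neg] at hs
      have := mul_mem (hH.rel_root (a := x) (b := y) (c := 0) (d := 1) hxy (by decide)
        (show (-1 : F) * -1 = 1 by ring) (show (-1 : F) * -1 = 1 by ring)) (hm hs)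
      rwa [mul_assoc, show R (e (F := F) (0 : Fin 6) + (-1 : F) • e 1) = R (rt 0 1) from rfl, ← mul_assoc
        (R (rt 0 1)), R_sq, one_mul] at this
    · rw [map_mul, Equiv.Perm.sign_swap hxy, neg_one_mul, neg_inj] at hs
      have := mul_mem (hH.rel_root (a := 0) (b := 1) (c := x) (d := y) (by decide) hxy
        (show (-1 : F) * -1 = 1 by ring) (show (-1 : F) * -1 = 1 by ring)) (h1 hs)
      rwa [mul_assoc] at this

/-- Even monomial elements with an even number of signs are in the overgroup. -/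
theorem Over.exists_mono (hH : Over H) (π : Equiv.Perm (Fin 6)) (hπ : Equiv.Perm.sign π = 1)
    (s : Fin 6 → F) (hs : ∀ a, s a * s a = 1) (hprod : ∏ a, s a = 1) :
    ∃ m ∈ H, Mono m ∧ ∀ a, m.1 (e a) = s a • e (π a) := by
  have h2 := hH.two
  obtain ⟨g, hg, hgH, -⟩ := hH.exists_pure π
  set T := Finset.univ.filter fun a => s a = -1 with hT
  have hs' : ∀ a, s a = if a ∈ T then -1 else 1 := fun a => by
    rcases mul_self_eq_one_iff.1 (hs a) with h | h
    · rw [h, if_neg]; simp [hT, h]; exact fun h' => h2 (by linear_combination h')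
    · rw [if_pos (by simp [hT, h]), h]
  have heven : Even T.card := by
    by_contra hodd
    rw [Finset.prod_congr rfl fun a _ => hs' a, Finset.prod_ite, Finset.prod_const, Finset.prod_const,
      one_pow, mul_one, Finset.filter_mem_eq_inter, Finset.univ_inter,
      (Nat.not_even_iff_odd.1 hodd).neg_one_pow] at hprod
    exact h2 (by linear_combination -hprod)
  obtain ⟨k, hk⟩ := heven
  obtain ⟨d, hd, hdv⟩ := hH.flips_even k T (by omega)
  have hde : ∀ a, d.1 (e a) = s a • e a := fun a => funext fun t => by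
    rw [hdv, hs' a, Pi.smul_apply, e_apply]
    rcases eq_or_ne t a with rfl | h
    · split_ifs <;> simp
    · simp [h]
  have hge : ∀ a, (g * d).1 (e a) = s a • e (π a) := fun a => by rw [mul_apply, hde, map_smul, hg]
  refine ⟨g * d, mul_mem (hgH hπ) hd, fun a => ?_, hge⟩
  rw [hge, supp_smul (fun h => by simpa [h] using hs a), supp_e, Finset.card_singleton]

/-- An even permutation through four given points. -/
theorem exists_perm_four {a b c d : Fin 6} (hab : a ≠ b) (hac : a ≠ c) (had : a ≠ d) (hbc : b ≠ c)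
    (hbd : b ≠ d) (hcd : c ≠ d) : ∃ π : Equiv.Perm (Fin 6), Equiv.Perm.sign π = 1 ∧
      π 0 = a ∧ π 1 = b ∧ π 2 = c ∧ π 3 = d := by
  obtain ⟨x, y, hxy, hxa, hxb, hxc, hxd, hya, hyb, hyc, hyd⟩ : ∃ x y : Fin 6, x ≠ y ∧ x ≠ a ∧ x ≠ b ∧
      x ≠ c ∧ x ≠ d ∧ y ≠ a ∧ y ≠ b ∧ y ≠ c ∧ y ≠ d := by
    obtain ⟨p, q, hp, hq, hpq⟩ := exists_avoid ({a, b, c, d} : Finset (Fin 6)) (by
      have := Finset.card_le_four (a := a) (b := b) (c := c) (d := d); omega)
    simp only [Finset.mem_insert, Finset.mem_singleton, not_or] at hp hq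
    exact ⟨p, q, hpq, hp.1, hp.2.1, hp.2.2.1, hp.2.2.2, hq.1, hq.2.1, hq.2.2.1, hq.2.2.2⟩
  have hinj : Function.Injective ![a, b, c, d, x, y] := by
    intro i j h
    fin_cases i <;> fin_cases j <;> simp_all [eq_comm]
  set π := Equiv.ofBijective _ (Finite.injective_iff_bijective.1 hinj) with hπ
  rcases Int.units_eq_one_or (Equiv.Perm.sign π) with h | h
  · exact ⟨π, h, rfl, rfl, rfl, rfl⟩
  · refine ⟨Equiv.swap x y * π, by rw [map_mul, Equiv.Perm.sign_swap hxy, h]; rfl, ?_, ?_, ?_, ?_⟩ <;>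
      simp [hπ, Equiv.swap_apply_def, hxa.symm, hxb.symm, hxc.symm, hxd.symm, hya.symm, hyb.symm,
        hyc.symm, hyd.symm]

/-- Moving a given root pair to the standard one. -/
theorem Over.conj_tee (hH : Over H) {a b c d : Fin 6} (hab : a ≠ b) (hac : a ≠ c) (had : a ≠ d)
    (hbc : b ≠ c) (hbd : b ≠ d) (hcd : c ≠ d) {σ τ : F} (hσ : σ * σ = 1) (hτ : τ * τ = 1) :
    ∃ m ∈ H, Mono m ∧ m * tee * m⁻¹ = R (e a + σ • e b) * R (e c + τ • e d) := by
  obtain ⟨π, hπ, h0, h1, h2, h3⟩ := exists_perm_four hab hac had hbc hbd hcd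
  obtain ⟨m, hm, hmm, hmv⟩ := hH.exists_mono π hπ ![1, -σ, 1, -τ, σ * τ, 1]
    (fun i => by fin_cases i <;> simp [hσ, hτ]; linear_combination (τ * τ) * hσ + hτ)
    (by simp [Fin.prod_univ_six]; linear_combination (τ * τ) * hσ + hτ)
  refine ⟨m, hm, hmm, ?_⟩
  rw [tee, show m * (R (rt 0 1) * R (rt 2 3)) * m⁻¹ = m * R (rt 0 1) * m⁻¹ * (m * R (rt 2 3) * m⁻¹) by
    group, R_conj, R_conj]
  simp only [rt, map_add, map_smul, hmv, h0, h1, h2, h3]
  simp [smul_smul]

/-- Moving a given root and coordinate to the standard ones. -/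
theorem Over.conj_uu (hH : Over H) {a b c : Fin 6} (hab : a ≠ b) (hac : a ≠ c) (hbc : b ≠ c)
    {σ : F} (hσ : σ * σ = 1) : ∃ m ∈ H, Mono m ∧ m * uu * m⁻¹ = R (e a + σ • e b) * R (e c) := by
  obtain ⟨d, hda, hdb, hdc⟩ := (by decide : ∀ i j k : Fin 6, ∃ d, d ≠ i ∧ d ≠ j ∧ d ≠ k) a b c
  obtain ⟨π, hπ, h0, h1, h2, -⟩ := exists_perm_four hab hac hda.symm hbc hdb.symm hdc.symm
  obtain ⟨m, hm, hmm, hmv⟩ := hH.exists_mono π hπ ![1, -σ, 1, -σ, 1, 1]
    (fun i => by fin_cases i <;> simp [hσ]) (by simp [Fin.prod_univ_six, hσ])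
  refine ⟨m, hm, hmm, ?_⟩
  rw [uu, show m * (R (rt 0 1) * R (e 2)) * m⁻¹ = m * R (rt 0 1) * m⁻¹ * (m * R (e 2) * m⁻¹) by group,
    R_conj, R_conj]
  simp only [rt, map_add, map_smul, hmv, h0, h1, h2]
  simp [smul_smul]

theorem Mono.conj_eps {g : O F 6} (hg : Mono g) {a b : Fin 6} (hab : a ≠ b) :
    ∃ c d, c ≠ d ∧ g * eps a b * g⁻¹ = eps c d := by
  obtain ⟨π, s, hs, hπ⟩ := hg.exists_perm
  refine ⟨π a, π b, π.injective.ne hab, ?_⟩
  rw [eps, show g * (R (e a) * R (e b)) * g⁻¹ = g * R (e a) * g⁻¹ * (g * R (e b) * g⁻¹) by group,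
    R_conj, R_conj, hπ, hπ, R_smul fun h => by simpa [h] using hs a, R_smul fun h => by simpa [h] using hs b]
  rfl

/-- Moving a pair of coordinates to another. -/
theorem Over.conj_eps (hH : Over H) {a b c d : Fin 6} (hab : a ≠ b) (hcd : c ≠ d) :
    ∃ m ∈ H, Mono m ∧ m * eps a b * m⁻¹ = eps c d := by
  have key : ∀ x y : Fin 6, x ≠ y → ∃ m ∈ H, Mono m ∧ m * eps 0 1 * m⁻¹ = eps x y := fun x y hxy => by
    obtain ⟨z, hzx, hzy, -⟩ := (by decide : ∀ i j k : Fin 6, ∃ d, d ≠ i ∧ d ≠ j ∧ d ≠ k) x y y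
    obtain ⟨w, hwx, hwy, hwz⟩ := (by decide : ∀ i j k : Fin 6, ∃ d, d ≠ i ∧ d ≠ j ∧ d ≠ k) x y z
    obtain ⟨π, hπ, h0, h1, -⟩ := exists_perm_four hxy hzx.symm hwx.symm hzy.symm hwy.symm hwz.symm
    obtain ⟨m, hm, hmm, hmv⟩ := hH.exists_mono π hπ (fun _ => 1) (by simp) (by simp)
    refine ⟨m, hm, hmm, ?_⟩
    rw [eps, show m * (R (e 0) * R (e 1)) * m⁻¹ = m * R (e 0) * m⁻¹ * (m * R (e 1) * m⁻¹) by group,
      R_conj, R_conj, hmv, hmv, h0, h1, one_smul, one_smul]
    rfl
  obtain ⟨m₁, hm₁, hmm₁, h1⟩ := key a b hab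
  obtain ⟨m₂, hm₂, hmm₂, h2⟩ := key c d hcd
  refine ⟨m₂ * m₁⁻¹, mul_mem hm₂ (inv_mem hm₁), hmm₂.mul hmm₁.inv, ?_⟩
  rw [← h1, ← h2]; group

/-- An involution interchanging two coordinates is the reflection in their root times an involution
fixing both. -/
theorem Mono.peel (h2 : (2 : F) ≠ 0) {z : O F 6} (hz : Mono z) (hz2 : z * z = 1) {a : Fin 6}
    {π : Equiv.Perm (Fin 6)} {s : Fin 6 → F} (hs : ∀ i, s i * s i = 1)
    (hπ : ∀ i, z.1 (e i) = s i • e (π i)) (hb : π a ≠ a) :
    π (π a) = a ∧ ∃ z', z = R (e a + (-(s a)) • e (π a)) * z' ∧ z'.1 (e a) = e a ∧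
      z'.1 (e (π a)) = e (π a) ∧ ∀ i, i ≠ a → i ≠ π a → z'.1 (e i) = z.1 (e i) := by
  have hsq : ∀ i, π (π i) = i ∧ s i * s (π i) = 1 := fun i => by
    have h1 : (z * z).1 (e i) = e i := by rw [hz2, one_apply]
    rw [mul_apply, hπ, map_smul, hπ, smul_smul] at h1
    have h3 := congrFun h1 i
    rw [Pi.smul_apply, e_apply, e_apply, if_pos rfl, smul_eq_mul] at h3
    by_cases h : i = π (π i)
    · rw [if_pos h, mul_one] at h3; exact ⟨h.symm, h3⟩
    · rw [if_neg h, mul_zero] at h3; exact absurd h3 zero_ne_one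
  obtain ⟨hba, hsb⟩ := hsq a
  refine ⟨hba, R (e a + (-(s a)) • e (π a)) * z, by rw [← mul_assoc, R_sq, one_mul], ?_, ?_, ?_⟩
  · have hn := (root_norm (F := F) h2 hb.symm (σ := -(s a)) (by rw [neg_mul_neg]; exact hs a)).1
    rw [mul_apply, hπ, R_apply, hn, mul_div_cancel_left₀ _ h2]
    funext t
    rcases eq_or_ne t a with rfl | hta
    · simp [smul_dotProduct, dotProduct_add, dotProduct_smul, ee, ee_ne hb, e_apply, hb, hb.symm]
      linear_combination hs t
    rcases eq_or_ne t (π a) with rfl | htb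
    · simp [smul_dotProduct, dotProduct_add, dotProduct_smul, ee, ee_ne hb, e_apply, hb, hb.symm]
      linear_combination (-(s a)) * hs a
    · simp [smul_dotProduct, dotProduct_add, dotProduct_smul, ee, ee_ne hb, e_apply, hta, htb]
  · have hn := (root_norm (F := F) h2 hb.symm (σ := -(s a)) (by rw [neg_mul_neg]; exact hs a)).1
    rw [mul_apply, hπ, hba, R_apply, hn, mul_div_cancel_left₀ _ h2]
    funext t
    rcases eq_or_ne t a with rfl | hta
    · simp [smul_dotProduct, dotProduct_add, dotProduct_smul, ee, ee_ne hb.symm, e_apply, hb, hb.symm]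
    rcases eq_or_ne t (π a) with rfl | htb
    · simp [smul_dotProduct, dotProduct_add, dotProduct_smul, ee, ee_ne hb.symm, e_apply, hb, hb.symm]
      linear_combination hsb
    · simp [smul_dotProduct, dotProduct_add, dotProduct_smul, ee, ee_ne hb.symm, e_apply, hta, htb]
  · intro i hia hib
    rw [mul_apply, hπ, map_smul, R_fix]
    have h1 : π i ≠ a := fun h => hib (by rw [← h, (hsq i).1])
    simp [dotProduct_add, dotProduct_smul, ee_ne h1, ee_ne (π.injective.ne hia)]

/-- A diagonal element is a change of signs. -/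
theorem exists_signs {g : O F 6} (h : ∀ i, g.1 (e i) = e i ∨ g.1 (e i) = -e i) :
    ∃ T : Finset (Fin 6), (∀ i, i ∈ T ↔ g.1 (e i) ≠ e i) ∧
      ∀ v k, g.1 v k = if k ∈ T then -v k else v k := by
  classical
  refine ⟨Finset.univ.filter fun i => g.1 (e i) ≠ e i, fun i => by simp, fun v k => ?_⟩
  have hv := congrArg (fun w => g.1 w k) (sum_e v)
  simp only [map_sum, map_smul, Finset.sum_apply, Pi.smul_apply, smul_eq_mul] at hv
  rw [← hv, Finset.sum_eq_single k]
  · rcases h k with hk | hk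
    · simp [hk, e_apply]
    · by_cases hk' : g.1 (e k) = e k
      · simp [hk', e_apply]
      · simp [hk, e_apply]
        intro hc
        exact absurd (hk.trans hc) hk'
  · intro b _ hb
    rcases h b with h' | h' <;> simp [h', e_apply, hb.symm]
  · simp

/-- An element changing signs on an odd set is outside the commutator subgroup. -/
theorem Over.signs_even (hH : Over H) {g : O F 6} (hg : g ∈ commutator (O F 6)) {T : Finset (Fin 6)}
    (hT : ∀ v k, g.1 v k = if k ∈ T then -v k else v k) : Even T.card := by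
  by_contra hodd
  obtain ⟨k, hk⟩ := Nat.not_even_iff_odd.1 hodd
  obtain ⟨a, ha⟩ := Finset.card_pos.1 (show 0 < T.card by omega)
  obtain ⟨d, hd, hdv⟩ := hH.flips_even k (T.erase a) (by rw [Finset.card_erase_of_mem ha]; omega)
  have hRa : R (e a) = d * g := O_ext fun i => funext fun t => by
    rw [mul_apply, hdv, hT, R_e_coord']
    rcases eq_or_ne t a with rfl | hta
    · simp [ha]
    · by_cases htT : t ∈ T <;> simp [hta, htT]
  exact single_not_mem hH.two (by rw [ee]; exact one_ne_zero) (hRa ▸ mul_mem (hH.le hd) hg)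

end CfsgLib.Geo.OFrame
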